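import Cfsg.Agent.Base

/-!
# Two involutions generate a dihedral group

Elementary facts about a pair `x, y` of elements with `x * x = 1`, `y * y = 1`.
-/

set_option autoImplicit false

namespace CL.Invol

variable {G : Type*} [Group G]

theorem mul_self_of_orderOf_two {x : G} (hx : orderOf x = 2) : x * x = 1 := by
  have := pow_orderOf_eq_one x
  rwa [hx, pow_two] at this

theorem sq_of_orderOf_two {x : G} (hx : orderOf x = 2) : x ^ 2 = 1 := by
  rw [pow_two]; exact mul_self_of_orderOf_two hx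

theorem ne_one_of_orderOf_two {x : G} (hx : orderOf x = 2) : x ≠ 1 := by
  rintro rfl
  simp at hx

theorem inv_eq_of_orderOf_two {x : G} (hx : orderOf x = 2) : x⁻¹ = x :=
  inv_eq_of_mul_eq_one_right (mul_self_of_orderOf_two hx)

theorem orderOf_two_of_mul_self {x : G} (h1 : x ≠ 1) (hx : x * x = 1) : orderOf x = 2 :=
  orderOf_eq_prime (by rw [pow_two]; exact hx) h1

theorem orderOf_two_iff {x : G} : orderOf x = 2 ↔ x ≠ 1 ∧ x * x = 1 :=
  ⟨fun h => ⟨ne_one_of_orderOf_two h, mul_self_of_orderOf_two h⟩,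
    fun h => orderOf_two_of_mul_self h.1 h.2⟩

theorem orderOf_conj (g x : G) : orderOf (g * x * g⁻¹) = orderOf x := by
  have := (MulAut.conj g).orderOf_eq x
  simpa using this

theorem orderOf_conj_two {x : G} (hx : orderOf x = 2) (g : G) : orderOf (g * x * g⁻¹) = 2 := by
  rw [orderOf_conj, hx]

theorem IsConj.orderOf_eq' {x y : G} (h : IsConj x y) : orderOf x = orderOf y := by
  obtain ⟨c, rfl⟩ := isConj_iff.1 h
  rw [orderOf_conj]

/-- `x` inverts `x * y`. -/
theorem left_conj_mul {x y : G} (hx : x * x = 1) (hy : y * y = 1) :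
    x * (x * y) * x⁻¹ = (x * y)⁻¹ := by
  have hx' : x⁻¹ = x := inv_eq_of_mul_eq_one_right hx
  have hy' : y⁻¹ = y := inv_eq_of_mul_eq_one_right hy
  rw [mul_inv_rev, hx', hy', ← mul_assoc, hx, one_mul]

/-- `y` inverts `x * y`. -/
theorem right_conj_mul {x y : G} (hx : x * x = 1) (hy : y * y = 1) :
    y * (x * y) * y⁻¹ = (x * y)⁻¹ := by
  have hx' : x⁻¹ = x := inv_eq_of_mul_eq_one_right hx
  have hy' : y⁻¹ = y := inv_eq_of_mul_eq_one_right hy
  rw [mul_inv_rev, hx', hy', mul_assoc, mul_assoc, hy, mul_one]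

theorem conj_zpow_of_inverts {t c : G} (h : t * c * t⁻¹ = c⁻¹) (k : ℤ) :
    t * c ^ k * t⁻¹ = c ^ (-k) := by
  rw [← conj_zpow, h, inv_zpow, zpow_neg]

theorem conj_pow_of_inverts {t c : G} (h : t * c * t⁻¹ = c⁻¹) (k : ℕ) :
    t * c ^ k * t⁻¹ = (c ^ k)⁻¹ := by
  rw [← conj_pow, h, inv_pow]

theorem zpow_mul_of_inverts {t c : G} (h : t * c * t⁻¹ = c⁻¹) (k : ℤ) :
    c ^ k * t = t * c ^ (-k) := by
  have := conj_zpow_of_inverts h (-k)
  rw [neg_neg] at this
  rw [← this]; group

theorem mul_zpow_of_inverts {t c : G} (h : t * c * t⁻¹ = c⁻¹) (k : ℤ) :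
    t * c ^ k = c ^ (-k) * t := by
  rw [zpow_mul_of_inverts h, neg_neg]

/-- If the involution `t` inverts `c`, then `t * c ^ k` squares to one. -/
theorem mul_zpow_mul_self_of_inverts {t c : G} (ht : t * t = 1) (h : t * c * t⁻¹ = c⁻¹) (k : ℤ) :
    (t * c ^ k) * (t * c ^ k) = 1 := by
  have : c ^ k * t = t * c ^ (-k) := zpow_mul_of_inverts h k
  calc (t * c ^ k) * (t * c ^ k) = t * (c ^ k * t) * c ^ k := by group
    _ = (t * t) * (c ^ (-k) * c ^ k) := by rw [this]; group
    _ = 1 := by rw [ht]; group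

/-- Normal form in the group generated by an involution `t` and an element `c` it inverts. -/
theorem mem_closure_of_inverts_iff {t c : G} (ht : t * t = 1) (h : t * c * t⁻¹ = c⁻¹) (d : G) :
    d ∈ Subgroup.closure ({t, c} : Set G) ↔ ∃ k : ℤ, d = c ^ k ∨ d = t * c ^ k := by
  constructor
  · intro hd
    induction hd using Subgroup.closure_induction with
    | mem z hz =>
      rcases hz with rfl | rfl
      · exact ⟨0, Or.inr (by simp)⟩
      · exact ⟨1, Or.inl (by simp)⟩
    | one => exact ⟨0, Or.inl (by simp)⟩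
    | mul a b _ _ ha hb =>
      obtain ⟨i, rfl | rfl⟩ := ha <;> obtain ⟨j, rfl | rfl⟩ := hb
      · exact ⟨i + j, Or.inl (by rw [zpow_add])⟩
      · refine ⟨-i + j, Or.inr ?_⟩
        rw [← mul_assoc, zpow_mul_of_inverts h, zpow_add, mul_assoc]
      · exact ⟨i + j, Or.inr (by rw [zpow_add, mul_assoc])⟩
      · refine ⟨-i + j, Or.inl ?_⟩
        rw [mul_assoc, ← mul_assoc (c ^ i), zpow_mul_of_inverts h, zpow_add, ← mul_assoc,
          ← mul_assoc, ht, one_mul]
    | inv a _ ha =>
      obtain ⟨i, rfl | rfl⟩ := ha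
      · exact ⟨-i, Or.inl (by rw [zpow_neg])⟩
      · exact ⟨i, Or.inr (inv_eq_of_mul_eq_one_right (mul_zpow_mul_self_of_inverts ht h i))⟩
  · have h1 : t ∈ Subgroup.closure ({t, c} : Set G) := Subgroup.subset_closure (by simp)
    have h2 : c ∈ Subgroup.closure ({t, c} : Set G) := Subgroup.subset_closure (by simp)
    rintro ⟨k, rfl | rfl⟩
    · exact Subgroup.zpow_mem _ h2 k
    · exact Subgroup.mul_mem _ h1 (Subgroup.zpow_mem _ h2 k)

theorem closure_pair_eq {x y : G} :
    Subgroup.closure ({x, y} : Set G) = Subgroup.closure ({x, x * y} : Set G) := by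
  apply le_antisymm
  · have h1 : x ∈ Subgroup.closure ({x, x * y} : Set G) := Subgroup.subset_closure (by simp)
    have h2 : x * y ∈ Subgroup.closure ({x, x * y} : Set G) := Subgroup.subset_closure (by simp)
    rw [Subgroup.closure_le]
    rintro z (rfl | rfl)
    · exact h1
    · simpa using Subgroup.mul_mem _ (Subgroup.inv_mem _ h1) h2
  · have h1 : x ∈ Subgroup.closure ({x, y} : Set G) := Subgroup.subset_closure (by simp)
    have h2 : y ∈ Subgroup.closure ({x, y} : Set G) := Subgroup.subset_closure (by simp)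
    rw [Subgroup.closure_le]
    rintro z (rfl | rfl)
    · exact h1
    · exact Subgroup.mul_mem _ h1 h2

/-- Normal form in the group generated by two involutions. -/
theorem mem_closure_pair_iff {x y : G} (hx : x * x = 1) (hy : y * y = 1) (d : G) :
    d ∈ Subgroup.closure ({x, y} : Set G) ↔ ∃ k : ℤ, d = (x * y) ^ k ∨ d = x * (x * y) ^ k := by
  rw [closure_pair_eq, mem_closure_of_inverts_iff hx (left_conj_mul hx hy)]

theorem left_mem_closure_pair (x y : G) : x ∈ Subgroup.closure ({x, y} : Set G) :=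
  Subgroup.subset_closure (by simp)

theorem right_mem_closure_pair (x y : G) : y ∈ Subgroup.closure ({x, y} : Set G) :=
  Subgroup.subset_closure (by simp)

theorem mul_mem_closure_pair (x y : G) : x * y ∈ Subgroup.closure ({x, y} : Set G) :=
  Subgroup.mul_mem _ (left_mem_closure_pair x y) (right_mem_closure_pair x y)

/-- An involution `x` is not a power of `x * y` (`y` an involution). -/
theorem left_notMem_zpowers {x y : G} (hx : orderOf x = 2) (hy : orderOf y = 2) :
    x ∉ Subgroup.zpowers (x * y) := by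
  have hx2 := mul_self_of_orderOf_two hx
  have hy2 := mul_self_of_orderOf_two hy
  rintro ⟨k, hk⟩
  have hk' : (x * y) ^ k = x := hk
  have hcomm : Commute x (x * y) := by
    have := (Commute.refl (x * y)).zpow_left k
    rwa [hk'] at this
  have hinv := left_conj_mul hx2 hy2
  rw [hcomm.eq, mul_inv_cancel_right] at hinv
  have hc2 : (x * y) ^ (2 : ℤ) = 1 := by
    rw [zpow_two]; nth_rewrite 1 [hinv]; exact inv_mul_cancel _
  rcases Int.even_or_odd' k with ⟨m, rfl | rfl⟩
  · rw [zpow_mul, hc2, one_zpow] at hk'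
    exact ne_one_of_orderOf_two hx hk'.symm
  · rw [zpow_add, zpow_mul, hc2, one_zpow, one_mul, zpow_one] at hk'
    exact ne_one_of_orderOf_two hy (by simpa using hk')

/-- Conjugating `t` by a power of an element `c` it inverts. -/
theorem zpow_conj_of_inverts {t c : G} (h : t * c * t⁻¹ = c⁻¹) (k : ℤ) :
    c ^ k * t * (c ^ k)⁻¹ = t * c ^ (-(2 * k)) := by
  rw [zpow_mul_of_inverts h, ← zpow_neg, mul_assoc, ← zpow_add]
  congr 2; ring

theorem mul_zpow_conj_of_inverts {t c : G} (h : t * c * t⁻¹ = c⁻¹) (k : ℤ) :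
    (t * c ^ k) * t * (t * c ^ k)⁻¹ = t * c ^ (2 * k) := by
  have h1 := zpow_conj_of_inverts h k
  have h2 := conj_zpow_of_inverts h (-(2 * k))
  calc (t * c ^ k) * t * (t * c ^ k)⁻¹ = t * (c ^ k * t * (c ^ k)⁻¹) * t⁻¹ := by group
    _ = t * (t * c ^ (-(2 * k)) * t⁻¹) := by rw [h1]; group
    _ = t * c ^ (2 * k) := by rw [h2, neg_neg]

/-- The conjugates of `x` under `⟨x, y⟩` are the elements `x (xy)^(2k)`. -/
theorem exists_conj_left_iff {x y : G} (hx : x * x = 1) (hy : y * y = 1) (z : G) :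
    (∃ d ∈ Subgroup.closure ({x, y} : Set G), d * x * d⁻¹ = z) ↔
      ∃ k : ℤ, z = x * (x * y) ^ (2 * k) := by
  have h := left_conj_mul hx hy
  constructor
  · rintro ⟨d, hd, rfl⟩
    obtain ⟨k, rfl | rfl⟩ := (mem_closure_pair_iff hx hy d).1 hd
    · exact ⟨-k, by rw [zpow_conj_of_inverts h]; congr 2; ring⟩
    · exact ⟨k, mul_zpow_conj_of_inverts h k⟩
  · rintro ⟨k, rfl⟩
    exact ⟨x * (x * y) ^ k, (mem_closure_pair_iff hx hy _).2 ⟨k, Or.inr rfl⟩,
      mul_zpow_conj_of_inverts h k⟩

/-- If `x * y` has odd order, a power of `x * y` conjugates `x` to `y`. -/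
theorem exists_pow_conj_of_odd {x y : G} (hx : x * x = 1) (hy : y * y = 1)
    (hodd : Odd (orderOf (x * y))) : ∃ k : ℕ, (x * y) ^ k * x * ((x * y) ^ k)⁻¹ = y := by
  obtain ⟨m, hm⟩ := hodd
  refine ⟨m, ?_⟩
  have h := left_conj_mul hx hy
  have h1 := zpow_conj_of_inverts h (m : ℤ)
  rw [zpow_natCast] at h1
  have h2 : (x * y) ^ (-(2 * (m : ℤ))) = x * y := by
    have h3 : (x * y) ^ (2 * m + 1) = 1 := by rw [← hm]; exact pow_orderOf_eq_one _
    have h4 : (x * y) ^ (2 * (m : ℤ) + 1) = 1 := by exact_mod_cast h3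
    rw [zpow_neg, inv_eq_iff_mul_eq_one, ← zpow_add_one, h4]
  rw [h1, h2, ← mul_assoc, hx, one_mul]

/-- If `x * y` has odd order, `x` and `y` are conjugate in `⟨x, y⟩`. -/
theorem exists_conj_of_odd {x y : G} (hx : x * x = 1) (hy : y * y = 1)
    (hodd : Odd (orderOf (x * y))) :
    ∃ d ∈ Subgroup.closure ({x, y} : Set G), d * x * d⁻¹ = y := by
  obtain ⟨k, hk⟩ := exists_pow_conj_of_odd hx hy hodd
  exact ⟨_, Subgroup.pow_mem _ (mul_mem_closure_pair x y) k, hk⟩

/-- If `x * y` has odd order, some involution of `⟨x, y⟩` (or `x` itself) interchanges them: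
an element `w` with `w * w = 1` conjugating `x` to `y`. -/
theorem exists_invol_conj_of_odd {x y : G} (hx : x * x = 1) (hy : y * y = 1)
    (hodd : Odd (orderOf (x * y))) :
    ∃ k : ℤ, (x * (x * y) ^ k) * x * (x * (x * y) ^ k)⁻¹ = y := by
  obtain ⟨m, hm⟩ := hodd
  have h := left_conj_mul hx hy
  refine ⟨m + 1, ?_⟩
  rw [mul_zpow_conj_of_inverts h]
  have h3 : (x * y) ^ (2 * m + 1) = 1 := by rw [← hm]; exact pow_orderOf_eq_one _
  have h4 : (x * y) ^ (2 * (m : ℤ) + 1) = 1 := by exact_mod_cast h3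
  have : (2 * ((m : ℤ) + 1)) = (2 * (m : ℤ) + 1) + 1 := by ring
  rw [this, zpow_add_one, h4, one_mul, ← mul_assoc, hx, one_mul]

theorem isConj_of_odd {x y : G} (hx : x * x = 1) (hy : y * y = 1)
    (hodd : Odd (orderOf (x * y))) : IsConj x y := by
  obtain ⟨d, -, hd⟩ := exists_conj_of_odd hx hy hodd
  exact isConj_iff.2 ⟨d, hd⟩

/-- Non-conjugate involutions have a product of even order. -/
theorem even_orderOf_mul_of_not_isConj {x y : G} (hx : x * x = 1) (hy : y * y = 1)
    (h : ¬ IsConj x y) : Even (orderOf (x * y)) := by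
  by_contra hne
  exact h (isConj_of_odd hx hy (Nat.not_even_iff_odd.1 hne))

theorem orderOf_pow_half [Finite G] {c : G} (heven : Even (orderOf c)) :
    orderOf (c ^ (orderOf c / 2)) = 2 := by
  obtain ⟨m, hm⟩ := heven
  have hpos : 0 < orderOf c := orderOf_pos c
  have hm2 : orderOf c / 2 = m := by omega
  have hmpos : 0 < m := by omega
  rw [hm2]
  apply orderOf_two_of_mul_self
  · exact pow_ne_one_of_lt_orderOf hmpos.ne' (by omega)
  · rw [← pow_add, ← hm]; exact pow_orderOf_eq_one c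

/-- An involution that is a power of an element inverted by `t` commutes with `t`. -/
theorem commute_of_inverts_of_mem_zpowers {t c z : G} (h : t * c * t⁻¹ = c⁻¹)
    (hz : z ∈ Subgroup.zpowers c) (hz2 : z * z = 1) : Commute z t := by
  obtain ⟨k, rfl⟩ := hz
  have h1 := zpow_mul_of_inverts h k
  have h2 : c ^ (-k) = c ^ k := by
    rw [zpow_neg]; exact inv_eq_of_mul_eq_one_right hz2
  rw [h2] at h1
  exact h1

/-- If `x * y` has even order `n`, then `(x * y) ^ (n / 2)` is an involution commuting with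
`x` and `y`. -/
theorem central_involution_of_even [Finite G] {x y : G} (hx : x * x = 1) (hy : y * y = 1)
    (heven : Even (orderOf (x * y))) :
    orderOf ((x * y) ^ (orderOf (x * y) / 2)) = 2 ∧ Commute ((x * y) ^ (orderOf (x * y) / 2)) x ∧
      Commute ((x * y) ^ (orderOf (x * y) / 2)) y := by
  have h := orderOf_pow_half heven
  have hm : (x * y) ^ (orderOf (x * y) / 2) ∈ Subgroup.zpowers (x * y) :=
    Subgroup.pow_mem _ (Subgroup.mem_zpowers _) _
  exact ⟨h, commute_of_inverts_of_mem_zpowers (left_conj_mul hx hy) hm (mul_self_of_orderOf_two h),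
    commute_of_inverts_of_mem_zpowers (right_conj_mul hx hy) hm (mul_self_of_orderOf_two h)⟩

/-- Two involutions are conjugate by a power of their product, or some involution that is a power
of their product commutes with both. -/
theorem conj_or_exists_central [Finite G] {x y : G} (hx : x * x = 1) (hy : y * y = 1) :
    (∃ k : ℕ, (x * y) ^ k * x * ((x * y) ^ k)⁻¹ = y) ∨
      ∃ z ∈ Subgroup.zpowers (x * y), orderOf z = 2 ∧ Commute z x ∧ Commute z y := by
  rcases Nat.even_or_odd (orderOf (x * y)) with h | h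
  · exact Or.inr ⟨_, Subgroup.pow_mem _ (Subgroup.mem_zpowers _) _,
      central_involution_of_even hx hy h⟩
  · exact Or.inl (exists_pow_conj_of_odd hx hy h)

/-- If `x * y` has even order, `x` and `y` are not conjugate in `⟨x, y⟩`. -/
theorem conj_ne_of_even {x y : G} (hx : x * x = 1) (hy : y * y = 1)
    (heven : Even (orderOf (x * y))) (d : G) (hd : d ∈ Subgroup.closure ({x, y} : Set G)) :
    d * x * d⁻¹ ≠ y := by
  intro h
  obtain ⟨k, hk⟩ := (exists_conj_left_iff hx hy y).1 ⟨d, hd, h⟩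
  have h1 : (x * y) ^ (2 * k) = (x * y) ^ (1 : ℤ) := by
    have : x * y = x * (x * (x * y) ^ (2 * k)) := by rw [← hk]
    rw [← mul_assoc, hx, one_mul] at this
    rw [zpow_one, ← this]
  rw [zpow_eq_zpow_iff_modEq] at h1
  obtain ⟨m, hm⟩ := heven
  have h2 := h1.dvd
  rw [hm] at h2
  obtain ⟨c, hc⟩ := h2
  push_cast at hc
  have : (1 : ℤ) = 2 * (k + m * c) := by linarith
  omega

/-- The homomorphism from a dihedral group determined by an element `t` with `t * t = 1` and an
element `c` inverted by `t` with `c ^ n = 1`. -/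
def dihedralHom {n : ℕ} [NeZero n] {t c : G} (ht : t * t = 1) (h : t * c * t⁻¹ = c⁻¹)
    (hn : c ^ n = 1) : DihedralGroup n →* G :=
  MonoidHom.mk' (fun d => match d with
    | DihedralGroup.r i => c ^ (i.val : ℤ)
    | DihedralGroup.sr i => t * c ^ (i.val : ℤ)) (by
    have key : ∀ (a b : ℤ), (a : ZMod n) = (b : ZMod n) → c ^ a = c ^ b := by
      intro a b hab
      rw [ZMod.intCast_eq_intCast_iff] at hab
      obtain ⟨k, hk⟩ := hab.dvd
      have : b = a + n * k := by linarith
      rw [this, zpow_add, zpow_mul, zpow_natCast, hn, one_zpow, mul_one]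
    rintro (i | i) (j | j)
    · simp only [DihedralGroup.r_mul_r]
      rw [← zpow_add]
      apply key
      simp
    · simp only [DihedralGroup.r_mul_sr]
      rw [← mul_assoc, zpow_mul_of_inverts h, mul_assoc, ← zpow_add]
      congr 1
      apply key
      simp [sub_eq_neg_add]
    · simp only [DihedralGroup.sr_mul_r]
      rw [mul_assoc, ← zpow_add]
      congr 1
      apply key
      simp
    · simp only [DihedralGroup.sr_mul_sr]
      rw [mul_assoc, ← mul_assoc (c ^ _), zpow_mul_of_inverts h, ← mul_assoc, ← mul_assoc, ht,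
        one_mul, ← zpow_add]
      apply key
      simp [sub_eq_neg_add])

theorem dihedralHom_r {n : ℕ} [NeZero n] {t c : G} (ht : t * t = 1) (h : t * c * t⁻¹ = c⁻¹)
    (hn : c ^ n = 1) (i : ZMod n) :
    dihedralHom ht h hn (DihedralGroup.r i) = c ^ (i.val : ℤ) := rfl

theorem dihedralHom_sr {n : ℕ} [NeZero n] {t c : G} (ht : t * t = 1) (h : t * c * t⁻¹ = c⁻¹)
    (hn : c ^ n = 1) (i : ZMod n) :
    dihedralHom ht h hn (DihedralGroup.sr i) = t * c ^ (i.val : ℤ) := rfl

theorem dihedralHom_range {n : ℕ} [NeZero n] {t c : G} (ht : t * t = 1) (h : t * c * t⁻¹ = c⁻¹)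
    (hn : c ^ n = 1) : (dihedralHom ht h hn).range = Subgroup.closure ({t, c} : Set G) := by
  have key : ∀ (a : ℤ), c ^ (((a : ZMod n).val : ℕ) : ℤ) = c ^ a := by
    intro a
    have hab : (((((a : ZMod n).val : ℕ) : ℤ)) : ZMod n) = (a : ZMod n) := by simp
    rw [ZMod.intCast_eq_intCast_iff] at hab
    obtain ⟨k, hk⟩ := hab.dvd
    have : a = (((a : ZMod n).val : ℕ) : ℤ) + n * k := by linarith
    conv_rhs => rw [this, zpow_add, zpow_mul, zpow_natCast c n, hn, one_zpow, mul_one]
  ext d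
  rw [mem_closure_of_inverts_iff ht h]
  constructor
  · rintro ⟨i | i, rfl⟩
    · exact ⟨_, Or.inl rfl⟩
    · exact ⟨_, Or.inr rfl⟩
  · rintro ⟨k, rfl | rfl⟩
    · exact ⟨DihedralGroup.r k, by rw [dihedralHom_r, key]⟩
    · exact ⟨DihedralGroup.sr k, by rw [dihedralHom_sr, key]⟩

theorem dihedralHom_injective {n : ℕ} [NeZero n] {t c : G} (ht : t * t = 1)
    (h : t * c * t⁻¹ = c⁻¹) (hn : c ^ n = 1) (hc : orderOf c = n)
    (htc : t ∉ Subgroup.zpowers c) : Function.Injective (dihedralHom ht h hn) := by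
  rw [injective_iff_map_eq_one]
  rintro (i | i) hi
  · rw [dihedralHom_r, zpow_natCast] at hi
    have h1 : orderOf c ∣ i.val := orderOf_dvd_of_pow_eq_one hi
    rw [hc] at h1
    have h2 : i.val = 0 := Nat.eq_zero_of_dvd_of_lt h1 (ZMod.val_lt i)
    rw [ZMod.val_eq_zero] at h2
    rw [h2]; rfl
  · rw [dihedralHom_sr] at hi
    exfalso
    apply htc
    rw [mul_eq_one_iff_eq_inv] at hi
    rw [hi]
    exact Subgroup.inv_mem _ (Subgroup.zpow_mem _ (Subgroup.mem_zpowers c) _)

/-- An involution `t` and an element `c` it inverts, `t ∉ ⟨c⟩`, generate a dihedral group. -/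
theorem nonempty_equiv_dihedral_of_inverts [Finite G] {t c : G} (ht : t * t = 1)
    (h : t * c * t⁻¹ = c⁻¹) (htc : t ∉ Subgroup.zpowers c) :
    Nonempty (↥(Subgroup.closure ({t, c} : Set G)) ≃* DihedralGroup (orderOf c)) := by
  have : NeZero (orderOf c) := ⟨(orderOf_pos c).ne'⟩
  have hn : c ^ orderOf c = 1 := pow_orderOf_eq_one c
  rw [← dihedralHom_range ht h hn]
  exact ⟨(MonoidHom.ofInjective (dihedralHom_injective ht h hn rfl htc)).symm⟩

/-- Two involutions generate a dihedral group. -/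
theorem nonempty_equiv_dihedral [Finite G] {x y : G} (hx : orderOf x = 2) (hy : orderOf y = 2) :
    Nonempty (↥(Subgroup.closure ({x, y} : Set G)) ≃* DihedralGroup (orderOf (x * y))) := by
  have hx2 := mul_self_of_orderOf_two hx
  have hy2 := mul_self_of_orderOf_two hy
  rw [closure_pair_eq]
  exact nonempty_equiv_dihedral_of_inverts hx2 (left_conj_mul hx2 hy2) (left_notMem_zpowers hx hy)

theorem card_closure_pair [Finite G] {x y : G} (hx : orderOf x = 2) (hy : orderOf y = 2) :
    Nat.card (Subgroup.closure ({x, y} : Set G)) = 2 * orderOf (x * y) := by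
  obtain ⟨e⟩ := nonempty_equiv_dihedral hx hy
  rw [Nat.card_congr e.toEquiv, DihedralGroup.nat_card]

/-- Two involutions whose product is a `2`-element generate a `2`-group. -/
theorem isPGroup_closure_pair [Finite G] {x y : G} (hx : x * x = 1) (hy : y * y = 1) {k : ℕ}
    (hk : (x * y) ^ 2 ^ k = 1) : IsPGroup 2 (Subgroup.closure ({x, y} : Set G)) := by
  rintro ⟨d, hd⟩
  obtain ⟨j, rfl | rfl⟩ := (mem_closure_pair_iff hx hy d).1 hd
  · refine ⟨k, Subtype.ext ?_⟩
    simp only [SubmonoidClass.mk_pow, OneMemClass.coe_one]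
    rw [← zpow_natCast, ← zpow_mul, mul_comm j, zpow_mul, zpow_natCast, hk, one_zpow]
  · refine ⟨1, Subtype.ext ?_⟩
    simp only [SubmonoidClass.mk_pow, OneMemClass.coe_one]
    rw [pow_one, pow_two]
    exact mul_zpow_mul_self_of_inverts hx (left_conj_mul hx hy) j

end CL.Invol
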