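import Cfsg.Agent.Base
import Cfsg.Agent.Invol.Dihedral

/-!
# The Baer–Suzuki theorem (proof of Alperin and Lyons)
-/

set_option autoImplicit false

namespace CL.Invol

open scoped Pointwise

variable {G : Type*} [Group G]

/-- Normalizers grow in `p`-groups (ambient form). -/
theorem lt_inf_normalizer_of_isPGroup [Finite G] {p : ℕ} [Fact p.Prime] {E P : Subgroup G}
    (hP : IsPGroup p P) (hEP : E < P) : E < P ⊓ Subgroup.normalizer (E : Set G) := by
  have hnil : Group.IsNilpotent P := hP.isNilpotent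
  have hnc : NormalizerCondition P := Group.normalizerCondition_of_isNilpotent
  have h1 : E.subgroupOf P < ⊤ := by
    rw [lt_top_iff_ne_top, Ne, Subgroup.subgroupOf_eq_top]
    exact hEP.not_ge
  have h2 := hnc _ h1
  rw [← Subgroup.subgroupOf_normalizer_eq hEP.le] at h2
  obtain ⟨x, hx1, hx2⟩ := SetLike.exists_of_lt h2
  refine lt_of_le_of_ne (le_inf hEP.le Subgroup.le_normalizer) ?_
  intro heq
  apply hx2
  have : (x : G) ∈ P ⊓ Subgroup.normalizer (E : Set G) := ⟨x.2, hx1⟩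
  rw [← heq] at this
  exact this

theorem baerSuzuki_step [Finite G] {p : ℕ} [Fact p.Prime] {K : Set G}
    (hK : ∀ g : G, ∀ x ∈ K, g * x * g⁻¹ ∈ K) {P Q : Subgroup G} (hP : IsPGroup p P)
    (hne : ¬ (K ∩ P ⊆ Q)) :
    ∃ x ∈ K, x ∈ P ∧ x ∉ Q ∧ x ∈ Subgroup.normalizer (K ∩ P ∩ Q) := by
  classical
  have : Finite (Subgroup G) := inferInstance
  obtain ⟨E, ⟨hE1, hE2, hE3⟩, hmax⟩ := Set.Finite.exists_maximal
    (s := {E : Subgroup G | P ⊓ Q ≤ E ∧ E ≤ P ∧ K ∩ E ⊆ Q}) (Set.toFinite _)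
    ⟨P ⊓ Q, le_rfl, inf_le_left, fun x hx => hx.2.2⟩
  have hEP : E < P := lt_of_le_of_ne hE2 (by rintro rfl; exact hne hE3)
  have hlt := lt_inf_normalizer_of_isPGroup hP hEP
  have hN : ¬ (K ∩ (P ⊓ Subgroup.normalizer (E : Set G) : Subgroup G) ⊆ Q) := by
    intro h
    exact hlt.not_ge (hmax ⟨hE1.trans hlt.le, inf_le_left, h⟩ hlt.le)
  rw [Set.not_subset] at hN
  obtain ⟨x, ⟨hxK, hxP, hxN⟩, hxQ⟩ := hN
  refine ⟨x, hxK, hxP, hxQ, Subgroup.mem_normalizer_fintype ?_⟩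
  rintro a ⟨⟨haK, haP⟩, haQ⟩
  have haE : a ∈ E := hE1 ⟨haP, haQ⟩
  have h1 : x * a * x⁻¹ ∈ E := (Subgroup.mem_normalizer_iff.1 hxN a).1 haE
  exact ⟨⟨hK x a haK, hE2 h1⟩, hE3 ⟨hK x a haK, h1⟩⟩

theorem ncard_inter_sylow_eq [Finite G] {p : ℕ} [Fact p.Prime] {K : Set G}
    (hK : ∀ g : G, ∀ x ∈ K, g * x * g⁻¹ ∈ K) (P Q : Sylow p G) :
    (K ∩ P).ncard = (K ∩ Q).ncard := by
  obtain ⟨g, rfl⟩ := MulAction.exists_smul_eq G P Q
  apply Set.ncard_congr (fun x _ => g * x * g⁻¹)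
  · rintro a ⟨haK, haP⟩
    refine ⟨hK g a haK, ?_⟩
    have : a ∈ (P : Subgroup G) := haP
    exact (Subgroup.smul_mem_pointwise_smul_iff (a := MulAut.conj g)).2 this
  · intro a b _ _ h
    simpa using h
  · rintro b ⟨hbK, hbP⟩
    refine ⟨g⁻¹ * b * g, ⟨by simpa using hK g⁻¹ b hbK, ?_⟩, by group⟩
    have : b ∈ MulAut.conj g • (P : Subgroup G) := hbP
    rw [Subgroup.mem_pointwise_smul_iff_inv_smul_mem] at this
    have h3 : g⁻¹ * b * g ∈ (P : Subgroup G) := by simpa using this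
    exact h3

/-- **Baer–Suzuki**, normal-subset form: if any two elements of a conjugation-invariant subset `K`
generate a `p`-group then `K` lies in every Sylow `p`-subgroup. -/
theorem baerSuzuki_subset_sylow [Finite G] {p : ℕ} [Fact p.Prime] {K : Set G}
    (hK : ∀ g : G, ∀ x ∈ K, g * x * g⁻¹ ∈ K)
    (h2 : ∀ x ∈ K, ∀ y ∈ K, IsPGroup p (Subgroup.closure ({x, y} : Set G))) (P : Sylow p G) :
    K ⊆ P := by
  classical
  have key : ∀ P Q : Sylow p G, K ∩ P = K ∩ Q := by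
    by_contra hcon
    push Not at hcon
    have : Finite (Sylow p G × Sylow p G) := inferInstance
    obtain ⟨⟨P, Q⟩, hPQ, hmax⟩ := Set.Finite.exists_maximalFor
      (fun PQ : Sylow p G × Sylow p G => (K ∩ PQ.1 ∩ PQ.2).ncard)
      {PQ : Sylow p G × Sylow p G | K ∩ PQ.1 ≠ K ∩ PQ.2} (Set.toFinite _)
      (by obtain ⟨P, Q, h⟩ := hcon; exact ⟨⟨P, Q⟩, h⟩)
    have hPQ' : K ∩ P ≠ K ∩ Q := hPQ
    have hcard := ncard_inter_sylow_eq hK P Q
    have h1 : ¬ (K ∩ (P : Subgroup G) ⊆ (Q : Subgroup G)) := by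
      intro h
      apply hPQ'
      exact Set.eq_of_subset_of_ncard_le (fun x hx => ⟨hx.1, h hx⟩) hcard.ge
    have h1' : ¬ (K ∩ (Q : Subgroup G) ⊆ (P : Subgroup G)) := by
      intro h
      apply hPQ'
      symm
      exact Set.eq_of_subset_of_ncard_le (fun x hx => ⟨hx.1, h hx⟩) hcard.le
    obtain ⟨x, hxK, hxP, hxQ, hxN⟩ := baerSuzuki_step hK P.isPGroup' h1
    obtain ⟨y, hyK, hyQ, hyP, hyN⟩ := baerSuzuki_step hK Q.isPGroup' h1'
    rw [Set.inter_right_comm] at hyN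
    set A : Set G := K ∩ (P : Subgroup G) ∩ (Q : Subgroup G) with hA
    have hD : IsPGroup p (Subgroup.closure A) :=
      P.isPGroup'.to_le ((Subgroup.closure_le _).2 fun a ha => ha.1.2)
    have hxy : Subgroup.closure ({x, y} : Set G) ≤
        Subgroup.normalizer ((Subgroup.closure A : Subgroup G) : Set G) := by
      rw [Subgroup.closure_le]
      rintro z (rfl | rfl)
      · exact Subgroup.normalizer_le_normalizer_closure A hxN
      · exact Subgroup.normalizer_le_normalizer_closure A hyN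
    obtain ⟨R, hR⟩ := ((h2 x hxK y hyK).to_sup_of_normal_right' hD hxy).exists_le_sylow
    have hxR : x ∈ (R : Subgroup G) := hR (Subgroup.mem_sup_left (left_mem_closure_pair x y))
    have hyR : y ∈ (R : Subgroup G) := hR (Subgroup.mem_sup_left (right_mem_closure_pair x y))
    have hAR : ∀ a ∈ A, a ∈ (R : Subgroup G) := fun a ha =>
      hR (Subgroup.mem_sup_right (Subgroup.subset_closure ha))
    have e1 : K ∩ P = K ∩ R := by
      by_contra hne
      have hlt : A.ncard < (K ∩ P ∩ R).ncard := by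
        refine Set.ncard_lt_ncard ?_ (Set.toFinite _)
        refine ⟨fun a ha => ⟨ha.1, hAR a ha⟩, fun h => hxQ ?_⟩
        exact (h ⟨⟨hxK, hxP⟩, hxR⟩).2
      exact hlt.not_ge (hmax (j := (P, R)) hne hlt.le)
    have e2 : K ∩ Q = K ∩ R := by
      by_contra hne
      have hlt : A.ncard < (K ∩ Q ∩ R).ncard := by
        refine Set.ncard_lt_ncard ?_ (Set.toFinite _)
        refine ⟨fun a ha => ⟨⟨ha.1.1, ha.2⟩, hAR a ha⟩, fun h => hyP ?_⟩
        exact (h ⟨⟨hyK, hyQ⟩, hyR⟩).1.2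
      exact hlt.not_ge (hmax (j := (Q, R)) hne hlt.le)
    exact hPQ' (e1.trans e2.symm)
  intro x hx
  obtain ⟨Q, hQ⟩ := (h2 x hx x hx).exists_le_sylow
  have : x ∈ K ∩ Q := ⟨hx, hQ (left_mem_closure_pair x x)⟩
  rw [← key P Q] at this
  exact this.2

/-- **Baer–Suzuki**, normal-subset form. -/
theorem baerSuzuki_closure [Finite G] {p : ℕ} [Fact p.Prime] {K : Set G}
    (hK : ∀ g : G, ∀ x ∈ K, g * x * g⁻¹ ∈ K)
    (h2 : ∀ x ∈ K, ∀ y ∈ K, IsPGroup p (Subgroup.closure ({x, y} : Set G))) :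
    (Subgroup.closure K).Normal ∧ IsPGroup p (Subgroup.closure K) := by
  constructor
  · rw [← Subgroup.normalizer_eq_top_iff, eq_top_iff, Subgroup.le_normalizer_closure_iff]
    intro g _ x hx
    exact Subgroup.subset_closure (hK g x hx)
  · obtain ⟨P⟩ : Nonempty (Sylow p G) := inferInstance
    exact P.isPGroup'.to_le ((Subgroup.closure_le _).2 (baerSuzuki_subset_sylow hK h2 P))

/-- **Baer–Suzuki**, subgroup form. -/
theorem baerSuzuki_subgroup [Finite G] {p : ℕ} [Fact p.Prime] (X : Subgroup G)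
    (h : ∀ g : G, IsPGroup p ↥(X ⊔ X.map (MulAut.conj g).toMonoidHom)) :
    ∃ N : Subgroup G, N.Normal ∧ IsPGroup p N ∧ X ≤ N := by
  have := baerSuzuki_closure (p := p) (K := {y : G | ∃ g : G, ∃ x ∈ X, y = g * x * g⁻¹}) ?_ ?_
  · refine ⟨_, this.1, this.2, fun x hx => Subgroup.subset_closure ⟨1, x, hx, by simp⟩⟩
  · rintro g _ ⟨k, x, hx, rfl⟩
    exact ⟨g * k, x, hx, by group⟩
  · rintro _ ⟨g, x, hx, rfl⟩ _ ⟨k, y, hy, rfl⟩
    refine ((h (g⁻¹ * k)).map (MulAut.conj g).toMonoidHom).to_le ?_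
    rw [Subgroup.closure_le]
    rintro z (rfl | rfl)
    · exact ⟨x, Subgroup.mem_sup_left hx, by simp⟩
    · refine ⟨(g⁻¹ * k) * y * (g⁻¹ * k)⁻¹, Subgroup.mem_sup_right ⟨y, hy, rfl⟩, ?_⟩
      simp only [MulEquiv.toMonoidHom_eq_coe, MonoidHom.coe_coe, MulAut.conj_apply]
      group

/-- **Baer–Suzuki**, element form. -/
theorem baerSuzuki_element [Finite G] {p : ℕ} [Fact p.Prime] (x : G)
    (h : ∀ g : G, IsPGroup p (Subgroup.closure ({x, g * x * g⁻¹} : Set G))) :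
    ∃ N : Subgroup G, N.Normal ∧ IsPGroup p N ∧ x ∈ N := by
  have := baerSuzuki_closure (p := p) (K := {y : G | ∃ g : G, y = g * x * g⁻¹}) ?_ ?_
  · refine ⟨_, this.1, this.2, Subgroup.subset_closure ⟨1, by simp⟩⟩
  · rintro g _ ⟨k, rfl⟩
    exact ⟨g * k, by group⟩
  · rintro _ ⟨g, rfl⟩ _ ⟨k, rfl⟩
    refine ((h (g⁻¹ * k)).map (MulAut.conj g).toMonoidHom).to_le ?_
    rw [Subgroup.closure_le]
    rintro z (rfl | rfl)
    · exact ⟨x, left_mem_closure_pair _ _, by simp⟩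
    · refine ⟨(g⁻¹ * k) * x * (g⁻¹ * k)⁻¹, right_mem_closure_pair _ _, ?_⟩
      simp only [MulEquiv.toMonoidHom_eq_coe, MonoidHom.coe_coe, MulAut.conj_apply]
      group

/-- **Baer–Suzuki**, with the `p`-core. -/
theorem mem_pCore_of_baerSuzuki [Finite G] {p : ℕ} [Fact p.Prime] (x : G)
    (h : ∀ g : G, IsPGroup p (Subgroup.closure ({x, g * x * g⁻¹} : Set G))) :
    x ∈ Cfsg.pCore p G := by
  obtain ⟨N, h1, h2, h3⟩ := baerSuzuki_element x h
  exact (le_sSup (s := {N : Subgroup G | N.Normal ∧ IsPGroup p N}) ⟨h1, h2⟩ : N ≤ _) h3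

theorem le_pCore_of_baerSuzuki [Finite G] {p : ℕ} [Fact p.Prime] (X : Subgroup G)
    (h : ∀ g : G, IsPGroup p ↥(X ⊔ X.map (MulAut.conj g).toMonoidHom)) :
    X ≤ Cfsg.pCore p G := by
  obtain ⟨N, h1, h2, h3⟩ := baerSuzuki_subgroup X h
  exact h3.trans (le_sSup (s := {N : Subgroup G | N.Normal ∧ IsPGroup p N}) ⟨h1, h2⟩)

/-- An involution lying in no normal `2`-subgroup inverts an element of odd prime order, which is a
power of a product `t * t ^ g`. -/
theorem exists_inverted_odd_prime [Finite G] {t : G} (ht : t * t = 1)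
    (hO : ∀ N : Subgroup G, N.Normal → IsPGroup 2 N → t ∉ N) :
    ∃ h : G, (orderOf h).Prime ∧ Odd (orderOf h) ∧ t * h * t⁻¹ = h⁻¹ ∧
      ∃ g : G, h ∈ Subgroup.zpowers (t * (g * t * g⁻¹)) := by
  have : Fact (Nat.Prime 2) := ⟨Nat.prime_two⟩
  by_contra hcon
  obtain ⟨N, h1, h2, h3⟩ := baerSuzuki_element (p := 2) t (by
    intro g
    have hg : (g * t * g⁻¹) * (g * t * g⁻¹) = 1 := by
      calc (g * t * g⁻¹) * (g * t * g⁻¹) = g * (t * t) * g⁻¹ := by group
        _ = 1 := by rw [ht]; group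
    set c := t * (g * t * g⁻¹) with hc
    have hpos : orderOf c ≠ 0 := (orderOf_pos c).ne'
    obtain ⟨k, m, hm, hkm⟩ := Nat.exists_eq_two_pow_mul_odd hpos
    by_cases hm1 : m = 1
    · apply isPGroup_closure_pair ht hg (k := k)
      rw [← hc, ← mul_one (2 ^ k), ← hm1, ← hkm]
      exact pow_orderOf_eq_one c
    · exfalso
      obtain ⟨q, hq, hqm⟩ := Nat.exists_prime_and_dvd hm1
      have hqc : q ∣ orderOf c := hkm ▸ Dvd.dvd.mul_left hqm _
      have hord : orderOf (c ^ (orderOf c / q)) = q := orderOf_pow_orderOf_div hpos hqc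
      apply hcon
      refine ⟨c ^ (orderOf c / q), hord.symm ▸ hq, ?_, ?_, g,
        Subgroup.pow_mem _ (Subgroup.mem_zpowers _) _⟩
      · rw [hord]; exact Odd.of_dvd_nat hm hqm
      · exact conj_pow_of_inverts (left_conj_mul ht hg) _)
  exact hO N h1 h2 h3

end CL.Invol
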