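import Cfsg.Agent.Invol.BFCor
import Cfsg.Agent.Solv.PiCore
import Cfsg.Agent.Solv.UniqueSubgroupP
import Cfsg.Agent.S0201

/-!
Groups of 2-rank one: the involution of a Sylow 2-subgroup is central modulo the core
(Burnside for cyclic Sylow 2-subgroups, Brauer–Suzuki for quaternion ones).
-/

set_option autoImplicit false

namespace CL.BF

open Cfsg

variable {G : Type*} [Group G]

/-- the subgroup `{1, a, b, a b}` for commuting `a`, `b` with `a² = b² = 1` -/
def fourSub {a b : G} (ha : a * a = 1) (hb : b * b = 1) (hab : a * b = b * a) : Subgroup G where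
  carrier := {g | g = 1 ∨ g = a ∨ g = b ∨ g = a * b}
  one_mem' := Or.inl rfl
  mul_mem' := by
    have h1 : a * (a * b) = b := by rw [← mul_assoc, ha, one_mul]
    have h2 : b * (a * b) = a := by rw [hab, ← mul_assoc, hb, one_mul]
    have h3 : a * b * a = b := by rw [hab, mul_assoc, ha, mul_one]
    have h4 : a * b * b = a := by rw [mul_assoc, hb, mul_one]
    have h5 : a * b * (a * b) = 1 := by rw [← mul_assoc, h3, hb]
    rintro x y (rfl | rfl | rfl | rfl) (h | h | h | h) <;>
      simp only [Set.mem_ofPred_eq, h, one_mul, mul_one, ha, hb, h1, h2, h3, h4, h5, ← hab,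
        true_or, or_true]
  inv_mem' := by
    have h5 : a * b * (a * b) = 1 := by
      rw [← mul_assoc, hab, mul_assoc b, ha, mul_one, hb]
    rintro x (rfl | rfl | rfl | rfl)
    · simp
    · simp [inv_eq_of_mul_eq_one_right ha]
    · simp [inv_eq_of_mul_eq_one_right hb]
    · rw [inv_eq_of_mul_eq_one_right h5]; simp

theorem mem_fourSub {a b : G} {ha : a * a = 1} {hb : b * b = 1} {hab : a * b = b * a} {g : G} :
    g ∈ fourSub ha hb hab ↔ g = 1 ∨ g = a ∨ g = b ∨ g = a * b := Iff.rfl

theorem card_fourSub {a b : G} (ha : a * a = 1) (hb : b * b = 1) (hab : a * b = b * a)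
    (ha1 : a ≠ 1) (hb1 : b ≠ 1) (hne : a ≠ b) : Nat.card (fourSub ha hb hab) = 4 := by
  classical
  have h1 : a * b ≠ 1 := fun h => hne (mul_right_cancel (h.trans hb.symm))
  have h2 : a * b ≠ a := by simpa using hb1
  have h3 : a * b ≠ b := by simpa using ha1
  have e : ((fourSub ha hb hab : Subgroup G) : Set G) = ({1, a, b, a * b} : Finset G) := by
    ext g; simp [mem_fourSub]
  change Nat.card ((fourSub ha hb hab : Subgroup G) : Set G) = 4
  rw [e, Nat.card_coe_set_eq, Set.ncard_coe_finset, Finset.card_insert_of_notMem,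
    Finset.card_insert_of_notMem, Finset.card_pair h3.symm]
  · simp [hne, h2.symm]
  · simp [ha1.symm, hb1.symm, h1.symm]

theorem isKleinFour_fourSub {a b : G} (ha : a * a = 1) (hb : b * b = 1) (hab : a * b = b * a)
    (ha1 : a ≠ 1) (hb1 : b ≠ 1) (hne : a ≠ b) : IsKleinFour (fourSub ha hb hab) where
  card_four := card_fourSub ha hb hab ha1 hb1 hne
  exponent_two := by
    have : Nontrivial (fourSub ha hb hab) :=
      ⟨⟨⟨a, Or.inr (Or.inl rfl)⟩, 1, fun h => ha1 (congrArg Subtype.val h)⟩⟩
    rw [Monoid.exponent_eq_prime_iff Nat.prime_two]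
    rintro ⟨g, hg⟩ hg1
    refine ord2_iff.2 ⟨Subtype.ext ?_, hg1⟩
    rcases hg with rfl | rfl | rfl | rfl
    · simp
    · exact ha
    · exact hb
    · change a * b * (a * b) = 1
      rw [← mul_assoc, hab, mul_assoc b, ha, mul_one, hb]

theorem odd_card_pPrimeCore (G : Type*) [Group G] [Finite G] :
    Odd (Nat.card (pPrimeCore 2 G)) :=
  Nat.coprime_two_right.1 (pPrimeCore_coprime 2 G)

/-- If commuting involutions of a Sylow 2-subgroup `S` coincide (so `S` is cyclic or generalized
quaternion), every involution of `S` is central modulo `O(G)`. -/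
theorem commutator_mem_core_of_rank_one [Finite G] (S : Sylow 2 G)
    (hS : ∀ x ∈ S, ∀ y ∈ S, orderOf x = 2 → orderOf y = 2 → x * y = y * x → x = y)
    {z : G} (hz : orderOf z = 2) (hzS : z ∈ S) (g : G) :
    z * g * z⁻¹ * g⁻¹ ∈ pPrimeCore 2 G := by
  have : Fact (Nat.Prime 2) := ⟨Nat.prime_two⟩
  have hcq := CL.isCyclic_or_quaternion_of_commute S.isPGroup' (fun x y hxy hx hy hx1 => by
    by_cases hy1 : y = 1
    · rw [hy1]; exact one_mem _
    · have := hS x x.2 y y.2 (by rw [Subgroup.orderOf_coe]; exact orderOf_eq_prime hx hx1)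
        (by rw [Subgroup.orderOf_coe]; exact orderOf_eq_prime hy hy1)
        (congrArg Subtype.val hxy.eq)
      rw [Subtype.ext this]; exact Subgroup.mem_zpowers y)
  have hnorm : (pPrimeCore 2 G).Normal := inferInstance
  rcases hcq with hc | ⟨-, n, hn, ⟨e⟩⟩
  · have hmin : (Nat.card G).minFac = 2 := by
      rw [Nat.minFac_eq_two_iff, ← hz]; exact orderOf_dvd_natCard z
    have hcomp := hc.isComplement' hmin
    set N := (MonoidHom.transferSylow S (hc.normalizer_le_centralizer hmin)).ker
    have hN : N ≤ pPrimeCore 2 G := by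
      refine le_pPrimeCore_of_not_dvd ?_
      rw [← hcomp.index_eq_card]
      exact S.not_dvd_index
    apply hN
    rw [MonoidHom.mem_ker]
    simp only [map_mul, map_inv]
    have hcomm := (hc.isMulCommutative).is_comm.comm
    rw [hcomm _ (MonoidHom.transferSylow S (hc.normalizer_le_centralizer hmin) g)]
    group
  · obtain ⟨m, rfl⟩ : ∃ m, n = m + 1 := ⟨n - 1, by omega⟩
    set π := QuotientGroup.mk' (pPrimeCore 2 G) with hπ
    have hsurj : Function.Surjective π := QuotientGroup.mk'_surjective _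
    have hdisj : Disjoint (S : Subgroup G) π.ker := by
      rw [hπ, QuotientGroup.ker_mk']
      obtain ⟨k, hk⟩ := S.isPGroup'.exists_card_eq
      exact Subgroup.disjoint_of_coprime_natCard
        (by rw [hk]; exact ((pPrimeCore_coprime 2 G).symm.pow_left k))
    have hinj : Function.Injective (π.subgroupMap S) := by
      rw [injective_iff_map_eq_one]
      intro a ha
      have h1 : π a = 1 := congrArg Subtype.val ha
      exact Subtype.ext (Subgroup.disjoint_def.1 hdisj a.2 h1)
    let e' : ↥((S : Subgroup G).map π) ≃* QuaternionGroup (2 ^ (m + 1)) :=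
      (MulEquiv.ofBijective (π.subgroupMap S) ⟨hinj, π.subgroupMap_surjective S⟩).symm.trans e
    have hZ := Cfsg.Agent.S0201.result (S.mapSurjective hsurj) m e' (fun N hN hodd =>
      pPrimeCore_eq_bot_iff.1 (pPrimeCore_quotient_pPrimeCore 2 G) N hN
        (Nat.coprime_two_right.2 hodd))
    obtain ⟨⟨c, hc⟩, hc2⟩ := exists_prime_orderOf_dvd_card'
      (G := Subgroup.center (G ⧸ pPrimeCore 2 G)) 2 (by rw [hZ])
    rw [← Subgroup.orderOf_coe] at hc2
    dsimp only at hc2
    have hcn : (Subgroup.zpowers c).Normal := by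
      refine ⟨fun x hx g => ?_⟩
      have hx' : x ∈ Subgroup.center _ := (Subgroup.zpowers_le.2 hc) hx
      rw [Subgroup.mem_center_iff.1 hx' g, mul_inv_cancel_right]
      exact hx
    have hcS : c ∈ (S : Subgroup G).map π :=
      (isPGroup_zpowers_of_mul_self (mul_self_of_ord2 hc2)).le_sylow_of_normal
        (S.mapSurjective hsurj) (Subgroup.mem_zpowers c)
    obtain ⟨w, hwS, rfl⟩ := hcS
    have hw2 : orderOf w = 2 := by
      refine ord2_iff.2 ⟨Subgroup.disjoint_def.1 hdisj (mul_mem hwS hwS) ?_, fun h => ?_⟩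
      · rw [MonoidHom.mem_ker, map_mul, mul_self_of_ord2 hc2]
      · rw [h, map_one, orderOf_one] at hc2; omega
    have hwz : w = z := by
      refine hS w hwS z hzS hw2 hz ?_
      rw [← mul_inv_eq_one]
      refine Subgroup.disjoint_def.1 hdisj
        (mul_mem (mul_mem hwS hzS) (inv_mem (mul_mem hzS hwS))) ?_
      rw [MonoidHom.mem_ker, map_mul, map_inv, map_mul, map_mul,
        Subgroup.mem_center_iff.1 hc (π z), mul_inv_cancel]
    rw [← QuotientGroup.ker_mk' (pPrimeCore 2 G), MonoidHom.mem_ker, ← hπ, ← hwz]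
    simp only [map_mul, map_inv]
    rw [← Subgroup.mem_center_iff.1 hc (π g)]
    group

end CL.BF
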