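import Cfsg.Agent.Base
import Cfsg.Agent.Invol.BaerSuzuki

/-!
# Strongly embedded subgroups: basic characterisations
-/

set_option autoImplicit false

namespace CL.Invol

open scoped Pointwise

variable {G : Type*} [Group G]

theorem exists_involution_of_even [Finite G] (h : Even (Nat.card G)) : ∃ t : G, orderOf t = 2 := by
  have : Fact (Nat.Prime 2) := ⟨Nat.prime_two⟩
  exact exists_prime_orderOf_dvd_card' 2 (even_iff_two_dvd.1 h)

theorem even_card_of_involution [Finite G] {t : G} (h : orderOf t = 2) : Even (Nat.card G) := by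
  rw [even_iff_two_dvd, ← h]; exact orderOf_dvd_natCard t

theorem even_card_iff_exists_involution [Finite G] (K : Subgroup G) :
    Even (Nat.card K) ↔ ∃ t ∈ K, orderOf t = 2 := by
  constructor
  · intro h
    obtain ⟨t, ht⟩ := exists_involution_of_even h
    exact ⟨t, t.2, by rw [Subgroup.orderOf_coe, ht]⟩
  · rintro ⟨t, htK, ht⟩
    exact even_card_of_involution (t := (⟨t, htK⟩ : K)) (by rw [← Subgroup.orderOf_coe]; exact ht)

theorem odd_card_iff_forall [Finite G] (K : Subgroup G) :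
    Odd (Nat.card K) ↔ ∀ t ∈ K, orderOf t ≠ 2 := by
  rw [← Nat.not_even_iff_odd, even_card_iff_exists_involution]
  push Not
  rfl

/-- A nontrivial `2`-subgroup contains an involution. -/
theorem exists_involution_of_isPGroup [Finite G] {X : Subgroup G} (hX : IsPGroup 2 X)
    (hne : X ≠ ⊥) : ∃ t ∈ X, orderOf t = 2 := by
  have : Fact (Nat.Prime 2) := ⟨Nat.prime_two⟩
  rw [← even_card_iff_exists_involution, even_iff_two_dvd]
  exact hX.card_eq_or_dvd.resolve_left (fun h => hne (Subgroup.card_eq_one.1 h))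

theorem isPGroup_zpowers_of_involution {t : G} (ht : t * t = 1) :
    IsPGroup 2 (Subgroup.zpowers t) := by
  rintro ⟨y, hy⟩
  refine ⟨1, Subtype.ext ?_⟩
  simp only [SubmonoidClass.mk_pow, OneMemClass.coe_one]
  obtain ⟨k, rfl⟩ := Subgroup.mem_zpowers_iff.1 hy
  rw [pow_one, ← zpow_natCast, ← zpow_mul, mul_comm k, zpow_mul, zpow_natCast, pow_two, ht,
    one_zpow]

/-- Every involution lies in a Sylow `2`-subgroup. -/
theorem exists_sylow_mem {t : G} (ht : t * t = 1) : ∃ P : Sylow 2 G, t ∈ (P : Subgroup G) := by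
  obtain ⟨P, hP⟩ := (isPGroup_zpowers_of_involution ht).exists_le_sylow
  exact ⟨P, hP (Subgroup.mem_zpowers t)⟩

/-- Every involution is conjugate into a given Sylow `2`-subgroup. -/
theorem exists_conj_mem_sylow [Finite G] {t : G} (ht : t * t = 1) (P : Sylow 2 G) :
    ∃ g : G, g * t * g⁻¹ ∈ (P : Subgroup G) := by
  have : Fact (Nat.Prime 2) := ⟨Nat.prime_two⟩
  obtain ⟨Q, hQ⟩ := exists_sylow_mem ht
  obtain ⟨g, rfl⟩ := MulAction.exists_smul_eq G Q P
  exact ⟨g, (Subgroup.smul_mem_pointwise_smul_iff (a := MulAut.conj g)).2 hQ⟩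

theorem mem_map_conj_iff {H : Subgroup G} {g x : G} :
    x ∈ H.map (MulAut.conj g).toMonoidHom ↔ g⁻¹ * x * g ∈ H := by
  constructor
  · rintro ⟨y, hy, rfl⟩
    simpa [mul_assoc] using hy
  · intro h
    exact ⟨_, h, by simp [mul_assoc]⟩

/-- The working form of strong embedding: an element conjugating an involution of `H` into `H`
lies in `H`. -/
theorem isStronglyEmbedded_iff [Finite G] {H : Subgroup G} :
    Cfsg.IsStronglyEmbedded H ↔ H ≠ ⊤ ∧ Even (Nat.card H) ∧
      ∀ t ∈ H, orderOf t = 2 → ∀ g : G, g * t * g⁻¹ ∈ H → g ∈ H := by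
  unfold Cfsg.IsStronglyEmbedded
  refine and_congr_right fun _ => and_congr_right fun _ => ⟨fun h t htH ht g hg => ?_, ?_⟩
  · by_contra hgH
    refine (odd_card_iff_forall _).1 (h g hgH) (g * t * g⁻¹) ⟨hg, ?_⟩ (orderOf_conj_two ht g)
    exact ⟨t, htH, rfl⟩
  · intro h g hg
    rw [odd_card_iff_forall]
    rintro s ⟨hsH, t, htH, rfl⟩ hs
    have hs' : orderOf (g * t * g⁻¹) = 2 := hs
    rw [orderOf_conj] at hs'
    exact hg (h t htH hs' g hsH)

section API

variable [Finite G] {H : Subgroup G}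

omit [Finite G] in
theorem strEmb_ne_top (h : Cfsg.IsStronglyEmbedded H) : H ≠ ⊤ := h.1

theorem strEmb_exists_involution (h : Cfsg.IsStronglyEmbedded H) : ∃ t ∈ H, orderOf t = 2 :=
  (even_card_iff_exists_involution H).1 h.2.1

theorem strEmb_mem_of_conj_mem (h : Cfsg.IsStronglyEmbedded H) {t g : G} (htH : t ∈ H)
    (ht : orderOf t = 2) (hg : g * t * g⁻¹ ∈ H) : g ∈ H :=
  (isStronglyEmbedded_iff.1 h).2.2 t htH ht g hg

theorem strEmb_mem_of_conj_mem' (h : Cfsg.IsStronglyEmbedded H) {t g : G} (htH : t ∈ H)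
    (ht : orderOf t = 2) (hg : g⁻¹ * t * g ∈ H) : g ∈ H := by
  have := strEmb_mem_of_conj_mem h htH ht (g := g⁻¹) (by simpa using hg)
  simpa using this

theorem strEmb_mem_of_commute (h : Cfsg.IsStronglyEmbedded H) {t g : G} (htH : t ∈ H)
    (ht : orderOf t = 2) (hg : Commute g t) : g ∈ H :=
  strEmb_mem_of_conj_mem h htH ht (by rw [hg.eq, mul_inv_cancel_right]; exact htH)

theorem strEmb_centralizer_le (h : Cfsg.IsStronglyEmbedded H) {t : G} (htH : t ∈ H)
    (ht : orderOf t = 2) : Subgroup.centralizer ({t} : Set G) ≤ H := by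
  intro g hg
  rw [Subgroup.mem_centralizer_singleton_iff] at hg
  exact strEmb_mem_of_commute h htH ht hg

/-- The normalizer of a subgroup of even order of a strongly embedded subgroup `H` lies in `H`. -/
theorem strEmb_normalizer_le (h : Cfsg.IsStronglyEmbedded H) {X : Subgroup G} (hX : X ≤ H)
    (he : Even (Nat.card X)) : Subgroup.normalizer (X : Set G) ≤ H := by
  obtain ⟨t, htX, ht⟩ := (even_card_iff_exists_involution X).1 he
  intro g hg
  exact strEmb_mem_of_conj_mem h (hX htX) ht (hX ((Subgroup.mem_normalizer_iff.1 hg t).1 htX))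

theorem strEmb_normalizer_le_of_isPGroup (h : Cfsg.IsStronglyEmbedded H) {X : Subgroup G}
    (hX : X ≤ H) (h2 : IsPGroup 2 X) (hne : X ≠ ⊥) : Subgroup.normalizer (X : Set G) ≤ H :=
  strEmb_normalizer_le h hX
    ((even_card_iff_exists_involution X).2 (exists_involution_of_isPGroup h2 hne))

theorem strEmb_normalizer_eq (h : Cfsg.IsStronglyEmbedded H) :
    Subgroup.normalizer (H : Set G) = H :=
  le_antisymm (strEmb_normalizer_le h le_rfl h.2.1) Subgroup.le_normalizer

/-- A `2`-subgroup meeting a strongly embedded subgroup nontrivially lies in it. -/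
theorem strEmb_le_of_isPGroup (h : Cfsg.IsStronglyEmbedded H) {P : Subgroup G}
    (hP : IsPGroup 2 P) (hne : P ⊓ H ≠ ⊥) : P ≤ H := by
  have : Fact (Nat.Prime 2) := ⟨Nat.prime_two⟩
  by_contra hcon
  have hlt : P ⊓ H < P := lt_of_le_of_ne inf_le_left (fun h' => hcon (inf_eq_left.1 h'))
  have h1 := lt_inf_normalizer_of_isPGroup hP hlt
  have h2 := strEmb_normalizer_le_of_isPGroup h inf_le_right (hP.to_le inf_le_left) hne
  exact h1.not_ge (inf_le_inf_left P h2)

theorem strEmb_le_of_isPGroup_of_mem (h : Cfsg.IsStronglyEmbedded H) {P : Subgroup G}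
    (hP : IsPGroup 2 P) {x : G} (hx : x ≠ 1) (hxP : x ∈ P) (hxH : x ∈ H) : P ≤ H := by
  apply strEmb_le_of_isPGroup h hP
  intro hbot
  have : x ∈ P ⊓ H := ⟨hxP, hxH⟩
  rw [hbot] at this
  exact hx this

/-- A strongly embedded subgroup contains a Sylow `2`-subgroup. -/
theorem strEmb_exists_sylow_le (h : Cfsg.IsStronglyEmbedded H) :
    ∃ P : Sylow 2 G, (P : Subgroup G) ≤ H := by
  obtain ⟨t, htH, ht⟩ := strEmb_exists_involution h
  obtain ⟨P, hP⟩ := exists_sylow_mem (mul_self_of_orderOf_two ht)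
  exact ⟨P, strEmb_le_of_isPGroup_of_mem h P.isPGroup' (ne_one_of_orderOf_two ht) hP htH⟩

theorem strEmb_odd_index (h : Cfsg.IsStronglyEmbedded H) : Odd H.index := by
  have : Fact (Nat.Prime 2) := ⟨Nat.prime_two⟩
  obtain ⟨P, hP⟩ := strEmb_exists_sylow_le h
  rw [← Nat.not_even_iff_odd, even_iff_two_dvd]
  exact fun h2 => P.not_dvd_index (h2.trans (Subgroup.index_dvd_of_le hP))

/-- The product of an involution of `H` with an involution outside `H` has odd order. -/
theorem strEmb_odd_orderOf_mul (h : Cfsg.IsStronglyEmbedded H) {t u : G} (htH : t ∈ H)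
    (ht : orderOf t = 2) (huH : u ∉ H) (hu : u * u = 1) : Odd (orderOf (t * u)) := by
  by_contra hcon
  obtain ⟨h1, h2, h3⟩ := central_involution_of_even (mul_self_of_orderOf_two ht) hu
    (Nat.not_odd_iff_even.1 hcon)
  exact huH (strEmb_mem_of_commute h (strEmb_mem_of_commute h htH ht h2) h1 h3.symm)

/-- Some involution lies outside a strongly embedded subgroup. -/
theorem strEmb_exists_involution_notMem (h : Cfsg.IsStronglyEmbedded H) :
    ∃ u : G, u ∉ H ∧ orderOf u = 2 := by
  obtain ⟨t, htH, ht⟩ := strEmb_exists_involution h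
  obtain ⟨g, hg⟩ : ∃ g : G, g ∉ H := by
    by_contra hcon
    push Not at hcon
    exact h.1 ((Subgroup.eq_top_iff' H).2 hcon)
  exact ⟨g * t * g⁻¹, fun h' => hg (strEmb_mem_of_conj_mem h htH ht h'), orderOf_conj_two ht g⟩

/-- A group with a strongly embedded subgroup has one class of involutions. -/
theorem strEmb_isConj (h : Cfsg.IsStronglyEmbedded H) {s t : G} (hs : orderOf s = 2)
    (ht : orderOf t = 2) : IsConj s t := by
  obtain ⟨u, huH, hu⟩ := strEmb_exists_involution_notMem h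
  obtain ⟨v, hvH, hv⟩ := strEmb_exists_involution h
  have key : ∀ a b : G, orderOf a = 2 → orderOf b = 2 → a ∈ H → b ∉ H → IsConj a b :=
    fun a b ha hb haH hbH => isConj_of_odd (mul_self_of_orderOf_two ha)
      (mul_self_of_orderOf_two hb)
      (strEmb_odd_orderOf_mul h haH ha hbH (mul_self_of_orderOf_two hb))
  by_cases hsH : s ∈ H <;> by_cases htH : t ∈ H
  · exact (key s u hs hu hsH huH).trans (key t u ht hu htH huH).symm
  · exact key s t hs ht hsH htH
  · exact (key t s ht hs htH hsH).symm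
  · exact (key v s hv hs hvH hsH).symm.trans (key v t hv ht hvH htH)

/-- A strongly embedded subgroup has one class of involutions. -/
theorem strEmb_exists_conj_mem (h : Cfsg.IsStronglyEmbedded H) {s t : G} (hs : orderOf s = 2)
    (ht : orderOf t = 2) (hsH : s ∈ H) (htH : t ∈ H) : ∃ g ∈ H, g * s * g⁻¹ = t := by
  obtain ⟨g, hg⟩ := isConj_iff.1 (strEmb_isConj h hs ht)
  exact ⟨g, strEmb_mem_of_conj_mem h hsH hs (hg ▸ htH), hg⟩

/-- A conjugate of a strongly embedded subgroup is strongly embedded. -/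
theorem strEmb_map_conj (h : Cfsg.IsStronglyEmbedded H) (k : G) :
    Cfsg.IsStronglyEmbedded (H.map (MulAut.conj k).toMonoidHom) := by
  rw [isStronglyEmbedded_iff]
  refine ⟨?_, ?_, ?_⟩
  · intro htop
    apply h.1
    rw [Subgroup.eq_top_iff'] at htop ⊢
    intro x
    have := mem_map_conj_iff.1 (htop (k * x * k⁻¹))
    simpa [mul_assoc] using this
  · obtain ⟨t, htH, ht⟩ := strEmb_exists_involution h
    exact (even_card_iff_exists_involution _).2 ⟨k * t * k⁻¹, ⟨t, htH, rfl⟩, orderOf_conj_two ht k⟩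
  · intro t htH ht g hg
    rw [mem_map_conj_iff] at htH hg ⊢
    refine strEmb_mem_of_conj_mem h htH (by simpa using orderOf_conj_two ht k⁻¹) ?_
    convert hg using 1
    group

/-- A proper overgroup of a strongly embedded subgroup is strongly embedded. -/
theorem strEmb_of_le (h : Cfsg.IsStronglyEmbedded H) {K : Subgroup G} (hHK : H ≤ K)
    (hK : K ≠ ⊤) : Cfsg.IsStronglyEmbedded K := by
  have : Fact (Nat.Prime 2) := ⟨Nat.prime_two⟩
  obtain ⟨t₀, ht₀H, ht₀⟩ := strEmb_exists_involution h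
  rw [isStronglyEmbedded_iff]
  refine ⟨hK, (even_card_iff_exists_involution _).2 ⟨t₀, hHK ht₀H, ht₀⟩, ?_⟩
  -- every involution of `K` is `K`-conjugate to `t₀`
  have key : ∀ t ∈ K, orderOf t = 2 → ∃ k ∈ K, k * t₀ * k⁻¹ = t := by
    intro t htK ht
    by_cases htH : t ∈ H
    · obtain ⟨g, hg, hg'⟩ := strEmb_exists_conj_mem h ht₀ ht ht₀H htH
      exact ⟨g, hHK hg, hg'⟩
    · obtain ⟨k, hk⟩ := exists_pow_conj_of_odd (mul_self_of_orderOf_two ht₀)
        (mul_self_of_orderOf_two ht)
        (strEmb_odd_orderOf_mul h ht₀H ht₀ htH (mul_self_of_orderOf_two ht))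
      exact ⟨_, K.pow_mem (K.mul_mem (hHK ht₀H) htK) k, hk⟩
  intro t htK ht g hg
  obtain ⟨a, haK, ha⟩ := key t htK ht
  obtain ⟨b, hbK, hb⟩ := key _ hg (orderOf_conj_two ht g)
  have : b⁻¹ * g * a ∈ H := by
    apply strEmb_mem_of_conj_mem h ht₀H ht₀
    have : b⁻¹ * g * a * t₀ * (b⁻¹ * g * a)⁻¹ = t₀ := by
      calc b⁻¹ * g * a * t₀ * (b⁻¹ * g * a)⁻¹ = b⁻¹ * (g * (a * t₀ * a⁻¹) * g⁻¹) * b := by group
        _ = t₀ := by rw [ha, ← hb]; group
    rw [this]; exact ht₀H
  have h2 : g = b * (b⁻¹ * g * a) * a⁻¹ := by group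
  rw [h2]
  exact K.mul_mem (K.mul_mem hbK (hHK this)) (K.inv_mem haK)

/-- Strong embedding passes to subgroups: if `K ≰ H` and `H ⊓ K` has even order then `H ⊓ K` is
strongly embedded in `K`. -/
theorem strEmb_subgroupOf (h : Cfsg.IsStronglyEmbedded H) {K : Subgroup G} (hK : ¬ K ≤ H)
    {t : G} (htH : t ∈ H) (htK : t ∈ K) (ht : orderOf t = 2) :
    Cfsg.IsStronglyEmbedded (H.subgroupOf K) := by
  rw [isStronglyEmbedded_iff]
  refine ⟨by rwa [Ne, Subgroup.subgroupOf_eq_top], (even_card_iff_exists_involution _).2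
    ⟨⟨t, htK⟩, htH, by rw [← Subgroup.orderOf_coe]; exact ht⟩, ?_⟩
  intro s hs hs2 g hg
  exact strEmb_mem_of_conj_mem h (t := (s : G)) hs (by rw [Subgroup.orderOf_coe]; exact hs2) hg

end API

/-- If the normalizer of every nontrivial `2`-subgroup of a proper subgroup `H` of even order lies
in `H`, then `H` is strongly embedded. -/
theorem isStronglyEmbedded_of_normalizers [Finite G] {H : Subgroup G} (hH : H ≠ ⊤)
    (he : Even (Nat.card H))
    (h : ∀ X : Subgroup G, X ≤ H → IsPGroup 2 X → X ≠ ⊥ → Subgroup.normalizer (X : Set G) ≤ H) :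
    Cfsg.IsStronglyEmbedded H := by
  have : Fact (Nat.Prime 2) := ⟨Nat.prime_two⟩
  -- a `2`-subgroup meeting `H` nontrivially lies in `H`
  have key : ∀ P : Subgroup G, IsPGroup 2 P → P ⊓ H ≠ ⊥ → P ≤ H := by
    intro P hP hne
    by_contra hcon
    have hlt : P ⊓ H < P := lt_of_le_of_ne inf_le_left (fun h' => hcon (inf_eq_left.1 h'))
    have h1 := lt_inf_normalizer_of_isPGroup hP hlt
    have h2 := h _ inf_le_right (hP.to_le inf_le_left) hne
    exact h1.not_ge (inf_le_inf_left P h2)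
  have key' : ∀ (P : Sylow 2 G) (t : G), orderOf t = 2 → t ∈ H → t ∈ (P : Subgroup G) →
      (P : Subgroup G) ≤ H := by
    intro P t ht htH htP
    apply key _ P.isPGroup'
    intro hbot
    have : t ∈ (P : Subgroup G) ⊓ H := ⟨htP, htH⟩
    rw [hbot] at this
    exact ne_one_of_orderOf_two ht this
  rw [isStronglyEmbedded_iff]
  refine ⟨hH, he, fun t htH ht g hg => ?_⟩
  obtain ⟨P, hP⟩ := exists_sylow_mem (mul_self_of_orderOf_two ht)
  have hPH := key' P t ht htH hP
  have hgP : g * t * g⁻¹ ∈ ((g • P : Sylow 2 G) : Subgroup G) :=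
    (Subgroup.smul_mem_pointwise_smul_iff (a := MulAut.conj g)).2 hP
  have hgPH := key' (g • P) _ (orderOf_conj_two ht g) hg hgP
  obtain ⟨k, hk⟩ := MulAction.exists_smul_eq H ((g • P).subtype hgPH) (P.subtype hPH)
  rw [Sylow.smul_subtype] at hk
  have hk' : (k : G) • g • P = P := Sylow.subtype_injective hk
  rw [← mul_smul, Sylow.smul_eq_iff_mem_normalizer] at hk'
  have hPne : (P : Subgroup G) ≠ ⊥ := by
    intro hbot
    rw [hbot] at hP
    exact ne_one_of_orderOf_two ht hP
  have := h _ hPH P.isPGroup' hPne hk'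
  simpa using H.mul_mem (H.inv_mem k.2) this

end CL.Invol
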