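import Cfsg.Agent.Base
import Cfsg.Agent.Invol.StrEmb

/-!
# Subgroups of index two; cyclic Sylow `2`-subgroups
-/

set_option autoImplicit false

namespace CL.Invol

variable {G : Type*} [Group G]

/-- A nontrivial finite `p`-group has a subgroup of index `p`. -/
theorem exists_index_eq_of_isPGroup [Finite G] {p : ℕ} [hp : Fact p.Prime] (hG : IsPGroup p G)
    (hne : Nat.card G ≠ 1) : ∃ H : Subgroup G, H.index = p := by
  obtain ⟨n, hn⟩ := hG.exists_card_eq
  rcases n with _ | n
  · exact absurd (by simpa using hn) hne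
  obtain ⟨H, hH⟩ := Sylow.exists_subgroup_card_pow_prime (G := G) p (n := n)
    (by rw [hn]; exact pow_dvd_pow p (Nat.le_succ n))
  refine ⟨H, ?_⟩
  have := H.card_mul_index
  rw [hH, hn, pow_succ] at this
  exact Nat.eq_of_mul_eq_mul_left (pow_pos hp.out.pos n) this

/-- If a proper normal subgroup has a `p`-group as quotient then some subgroup containing it has
index `p`. -/
theorem exists_index_eq_of_quotient [Finite G] {p : ℕ} [Fact p.Prime] (N : Subgroup G) [N.Normal]
    (hG : IsPGroup p (G ⧸ N)) (hne : N ≠ ⊤) : ∃ H : Subgroup G, N ≤ H ∧ H.index = p := by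
  obtain ⟨H, hH⟩ := exists_index_eq_of_isPGroup hG
    (fun h => hne (Subgroup.index_eq_one.1 h))
  refine ⟨H.comap (QuotientGroup.mk' N), ?_, ?_⟩
  · intro x hx
    rw [Subgroup.mem_comap, QuotientGroup.mk'_apply, (QuotientGroup.eq_one_iff x).2 hx]
    exact H.one_mem
  · rw [Subgroup.index_comap_of_surjective _ (QuotientGroup.mk'_surjective N), hH]

/-- If a nontrivial Sylow `p`-subgroup has a normal complement, there is a subgroup of index `p`. -/
theorem exists_index_eq_of_isComplement' [Finite G] {p : ℕ} [Fact p.Prime] {N P : Subgroup G}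
    [N.Normal] (hP : IsPGroup p P) (hne : P ≠ ⊥) (h : N.IsComplement' P) :
    ∃ H : Subgroup G, N ≤ H ∧ H.index = p := by
  obtain ⟨n, hn⟩ := hP.exists_card_eq
  have hi : N.index = p ^ n := by rw [h.symm.index_eq_card, hn]
  apply exists_index_eq_of_quotient N (IsPGroup.of_card hi)
  rintro rfl
  exact hne (Subgroup.isComplement'_top_left.1 h)

/-- A cyclic Sylow `2`-subgroup has a normal complement. -/
theorem exists_normal_complement_of_isCyclic [Finite G] (T : Sylow 2 G)
    (hT : IsCyclic (T : Subgroup G)) :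
    ∃ N : Subgroup G, N.Normal ∧ N.IsComplement' (T : Subgroup G) := by
  have : Fact (Nat.Prime 2) := ⟨Nat.prime_two⟩
  by_cases heven : Even (Nat.card G)
  · have hmin : (Nat.card G).minFac = 2 := (Nat.minFac_eq_two_iff _).2 (even_iff_two_dvd.1 heven)
    exact ⟨_, inferInstance, IsCyclic.isComplement' hmin hT⟩
  · have hbot : (T : Subgroup G) = ⊥ := by
      by_contra hne
      obtain ⟨t, -, ht⟩ := exists_involution_of_isPGroup T.isPGroup' hne
      exact heven (even_card_of_involution ht)
    exact ⟨⊤, inferInstance, Subgroup.isComplement'_top_left.2 hbot⟩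

theorem exists_index_two_of_isCyclic [Finite G] (heven : Even (Nat.card G)) (T : Sylow 2 G)
    (hT : IsCyclic (T : Subgroup G)) : ∃ H : Subgroup G, H.index = 2 := by
  have : Fact (Nat.Prime 2) := ⟨Nat.prime_two⟩
  obtain ⟨N, hN, h⟩ := exists_normal_complement_of_isCyclic T hT
  obtain ⟨H, -, hH⟩ := exists_index_eq_of_isComplement' T.isPGroup'
    (T.ne_bot_of_dvd_card (even_iff_two_dvd.1 heven)) h
  exact ⟨H, hH⟩

/-- A cyclic group has at most one involution. -/
theorem involution_unique_of_isCyclic [Finite G] [IsCyclic G] {s t : G} (hs : orderOf s = 2)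
    (ht : orderOf t = 2) : s = t := by
  classical
  have := Fintype.ofFinite G
  have h1 := IsCyclic.card_orderOf_eq_totient (α := G) (d := 2)
    (by rw [← Nat.card_eq_fintype_card, ← hs]; exact orderOf_dvd_natCard s)
  rw [Nat.totient_two, Finset.card_eq_one] at h1
  obtain ⟨a, ha⟩ := h1
  have h2 : s ∈ ({a} : Finset G) := by rw [← ha]; simpa using hs
  have h3 : t ∈ ({a} : Finset G) := by rw [← ha]; simpa using ht
  rw [Finset.mem_singleton] at h2 h3
  rw [h2, h3]

/-- A nontrivial finite `2`-subgroup has a central involution. -/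
theorem exists_central_involution [Finite G] {P : Subgroup G} (hP : IsPGroup 2 P) (hne : P ≠ ⊥) :
    ∃ z ∈ P, orderOf z = 2 ∧ ∀ x ∈ P, Commute z x := by
  have : Fact (Nat.Prime 2) := ⟨Nat.prime_two⟩
  have : Nontrivial P := (Subgroup.nontrivial_iff_ne_bot P).2 hne
  have h1 : Subgroup.center P ≠ ⊥ :=
    (Subgroup.nontrivial_iff_ne_bot _).1 hP.center_nontrivial
  obtain ⟨z, hz, hz2⟩ := exists_involution_of_isPGroup (hP.to_subgroup _) h1
  refine ⟨z, z.2, by rw [Subgroup.orderOf_coe]; exact hz2, fun x hx => ?_⟩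
  have := Subgroup.mem_center_iff.1 hz ⟨x, hx⟩
  exact (congrArg Subtype.val this).symm

end CL.Invol
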