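import Cfsg.Agent.Base
import Cfsg.Agent.Invol.Dihedral

/-!
# The unique involution of a (generalized) quaternion group
-/

set_option autoImplicit false

namespace CL.Invol

open QuaternionGroup

theorem quat_orderOf_eq_two_iff {n : ℕ} [NeZero n] (x : QuaternionGroup n) :
    orderOf x = 2 ↔ x = a (n : ZMod (2 * n)) := by
  have hn : n ≠ 0 := NeZero.ne n
  have hne : (n : ZMod (2 * n)) ≠ 0 := by
    intro h
    rw [ZMod.natCast_eq_zero_iff] at h
    have := Nat.le_of_dvd (Nat.pos_of_ne_zero hn) h
    omega
  constructor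
  · intro hx
    rcases x with i | i
    · have h1 := mul_self_of_orderOf_two hx
      have h2 := ne_one_of_orderOf_two hx
      rw [a_mul_a, one_def, a.injEq] at h1
      rw [one_def, Ne, a.injEq] at h2
      congr 1
      have : NeZero (2 * n) := ⟨by omega⟩
      have h3 : ((i.val + i.val : ℕ) : ZMod (2 * n)) = 0 := by
        push_cast; rw [ZMod.natCast_zmod_val]; exact h1
      rw [ZMod.natCast_eq_zero_iff] at h3
      have h4 := ZMod.val_lt i
      have h5 : i.val ≠ 0 := by rwa [Ne, ZMod.val_eq_zero]
      obtain ⟨c, hc⟩ := h3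
      have h6 : c = 1 := by
        rcases c with _ | _ | c
        · omega
        · rfl
        · nlinarith
      rw [h6] at hc
      have h7 : i.val = n := by omega
      rw [← ZMod.natCast_zmod_val i, h7]
    · rw [orderOf_xa] at hx
      omega
  · rintro rfl
    apply orderOf_two_of_mul_self
    · rw [one_def, Ne, a.injEq]; exact hne
    · rw [a_mul_a, one_def, a.injEq, ← Nat.cast_add, ZMod.natCast_eq_zero_iff, two_mul]

theorem quat_card_involutions (n : ℕ) [NeZero n] :
    Nat.card {x : QuaternionGroup n // orderOf x = 2} = 1 := by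
  rw [Nat.card_eq_one_iff_exists]
  exact ⟨⟨_, (quat_orderOf_eq_two_iff _).2 rfl⟩,
    fun y => Subtype.ext ((quat_orderOf_eq_two_iff _).1 y.2)⟩

/-- A group isomorphic to a generalized quaternion group has exactly one involution. -/
theorem existsUnique_involution_of_equiv_quat {S : Type*} [Group S] {n : ℕ} [NeZero n]
    (e : S ≃* QuaternionGroup n) : ∃! x : S, orderOf x = 2 := by
  refine ⟨e.symm (a (n : ZMod (2 * n))), ?_, ?_⟩
  · show orderOf _ = 2
    rw [e.symm.orderOf_eq, quat_orderOf_eq_two_iff]
  · intro y hy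
    rw [← e.orderOf_eq, quat_orderOf_eq_two_iff] at hy
    rw [← hy, e.symm_apply_apply]

end CL.Invol
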