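import Cfsg.Agent.Invol.BFCor
import Cfsg.Agent.Transfer.Alperin
import Cfsg.Agent.Transfer.PCompl
import Cfsg.Agent.S0215

/-!
Glauberman's theorem on automorphisms centralizing a Sylow 2-subgroup of a core-free group:
there is a normal subgroup `K` of odd order of `C_{Aut G}(S)` with abelian 2-group quotient.
-/

set_option autoImplicit false

open Cfsg Subgroup
open scoped Pointwise

namespace CL.AutSyl

open CL.BF CL.Transfer

variable {G : Type*} [Group G]

/-- `P` contains every `p`-element of `G` that centralizes it. -/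
def Centric (p : ℕ) (P : Subgroup G) : Prop :=
  ∀ c : G, (∀ x ∈ P, c * x = x * c) → (∃ k : ℕ, c ^ p ^ k = 1) → c ∈ P

theorem Centric.pow_index_mem [Finite G] {p : ℕ} [Fact p.Prime] (S : Sylow p G) {P : Subgroup G}
    (hP : Centric p P) {c : G} (hc : ∀ x ∈ P, c * x = x * c) :
    c ^ (S : Subgroup G).index ∈ P := by
  obtain ⟨k, hk⟩ := S.isPGroup'.exists_card_eq
  refine hP _ (fun x hx => ((show Commute c x from hc x hx).pow_left _).eq) ⟨k, ?_⟩
  rw [← pow_mul, ← hk, (S : Subgroup G).index_mul_card, pow_card_eq_one']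

theorem Centric.mul_pow_index [Finite G] {p : ℕ} [hp : Fact p.Prime] (S : Sylow p G)
    {P : Subgroup G} (hP : Centric p P) {c d : G} (hc : ∀ x ∈ P, c * x = x * c)
    (hd : ∀ x ∈ P, d * x = x * d) :
    (c * d) ^ (S : Subgroup G).index = c ^ (S : Subgroup G).index * d ^ (S : Subgroup G).index := by
  set C := centralizer (P : Set G) with hC
  have hmem : ∀ {c : G}, c ∈ C ↔ ∀ x ∈ P, c * x = x * c := by
    intro c
    rw [hC, mem_centralizer_iff]
    exact forall₂_congr fun x _ => eq_comm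
  have hnd : ¬ p ∣ (center C).index := by
    intro h
    obtain ⟨q, hq⟩ := exists_prime_orderOf_dvd_card' (G := C ⧸ center C) p h
    obtain ⟨x, rfl⟩ := QuotientGroup.mk_surjective q
    refine S.not_dvd_index (hq.symm.dvd.trans ?_)
    rw [orderOf_dvd_iff_pow_eq_one, ← QuotientGroup.mk_pow, QuotientGroup.eq_one_iff,
      mem_center_iff]
    intro y
    exact Subtype.ext (hmem.1 y.2 _ (hP.pow_index_mem S (hmem.1 x.2)))
  obtain ⟨k, hk⟩ := S.isPGroup'.exists_card_eq
  have hdvd : (center C).index ∣ (S : Subgroup G).index := by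
    have h1 : (center C).index ∣ p ^ k * (S : Subgroup G).index := by
      rw [← hk, (S : Subgroup G).card_mul_index]
      exact (index_dvd_card _).trans (card_subgroup_dvd_card C)
    exact (Nat.Coprime.pow_right k (hp.out.coprime_iff_not_dvd.2 hnd).symm).dvd_of_dvd_mul_left h1
  obtain ⟨j, hj⟩ := hdvd
  have h2 : (c * d) ^ (center C).index = c ^ (center C).index * d ^ (center C).index :=
    congrArg (fun z : center C => (z : C).1)
      ((MonoidHom.transferCenterPow C).map_mul ⟨c, hmem.2 hc⟩ ⟨d, hmem.2 hd⟩)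
  have h3 : Commute (c ^ (center C).index) (d ^ (center C).index) :=
    congrArg Subtype.val (mem_center_iff.1 ((center C).pow_index_mem ⟨d, hmem.2 hd⟩)
      ((⟨c, hmem.2 hc⟩ : C) ^ (center C).index))
  rw [hj, pow_mul, pow_mul, pow_mul, h2, h3.mul_pow]

/-- Key step: an involution `t` outside a normal subgroup `f(G)` of index two which centralizes a
Sylow 2-subgroup of `G` and satisfies the local condition is isolated. -/
theorem isolated {Γ : Type*} [Group Γ] [Finite Γ] (f : G →* Γ) (hf : Function.Injective f)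
    (t : Γ) (ht : t * t = 1) (hall : ∀ x : Γ, ∃ g, x = f g ∨ x = f g * t)
    (τ : MulAut G) (hτ : ∀ g, t * f g * t⁻¹ = f (τ g)) (S : Sylow 2 G) (hS : ∀ s ∈ S, τ s = s)
    (H : ∀ P ≤ (S : Subgroup G), Centric 2 P → ∀ g ∈ normalizer (P : Set G),
      g⁻¹ * τ g ∈ P → τ g = g) :
    ∃ T : Sylow 2 Γ, t ∈ T ∧ ∀ x : Γ, x * t * x⁻¹ ∈ T → x * t * x⁻¹ = t := by
  have : Fact (Nat.Prime 2) := ⟨Nat.prime_two⟩
  have hti : t⁻¹ = t := inv_eq_of_mul_eq_one_right ht
  have hcomm : ∀ s ∈ S, t * f s = f s * t := fun s hs => by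
    rw [← mul_inv_eq_iff_eq_mul, hτ, hS s hs]
  have hrange : f.range.Normal := ⟨by
    rintro _ ⟨a, rfl⟩ x
    obtain ⟨g, rfl | rfl⟩ := hall x
    · exact ⟨g * a * g⁻¹, by simp⟩
    · exact ⟨g * τ a * g⁻¹, by simp only [map_mul, map_inv, ← hτ]; group⟩⟩
  have h2 : IsPGroup 2 ↥(zpowers t ⊔ (S : Subgroup G).map f) := by
    refine (isPGroup_zpowers_of_mul_self ht).to_sup_of_normal_right' (S.isPGroup'.map f) ?_
    refine le_trans ?_ (centralizer_le_normalizer _)
    rw [zpowers_le, mem_centralizer_iff]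
    rintro _ ⟨s, hs, rfl⟩
    exact (hcomm s hs).symm
  obtain ⟨T, hT⟩ := h2.exists_le_sylow
  have htT : t ∈ (T : Subgroup Γ) := hT (mem_sup_left (mem_zpowers t))
  have hTS : (T : Subgroup Γ).comap f = S :=
    S.is_maximal' (T.isPGroup'.comap_of_injective f hf)
      (map_le_iff_le_comap.1 (le_sup_right.trans hT))
  have hTt : ∀ x ∈ (T : Subgroup Γ), t * x = x * t := by
    intro x hx
    obtain ⟨g, rfl | rfl⟩ := hall x
    · exact hcomm g (by change g ∈ (S : Subgroup G); rw [← hTS]; exact hx)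
    · have hg : g ∈ (S : Subgroup G) := by
        rw [← hTS]; exact (T : Subgroup Γ).mul_mem_cancel_right htT |>.1 hx
      rw [← mul_assoc, hcomm g hg]
  have claim : ∀ D : Subgroup Γ, IsExtremal T D → (T : Subgroup Γ) ⊓ centralizer (D : Set Γ) ≤ D →
      ∀ x ∈ normalizer (D : Set Γ), x * t * x⁻¹ = t := by
    intro D hD hcen x hx
    have htD : t ∈ D := hcen ⟨htT, mem_centralizer_iff.2 fun y hy => (hTt y (hD.1 hy)).symm⟩
    -- elements of `N(D)` of 2-power order centralizing `D ∩ f(G)` lie in `D`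
    have h0 : ∀ r ∈ normalizer (D : Set Γ), IsPGroup 2 (zpowers r) →
        (∀ g, f g ∈ D → r * f g = f g * r) → r ∈ D := by
      intro r hr hr2 hrc
      obtain ⟨h, hh, hhr⟩ := hD.2.exists_conj_le hr2 (zpowers_le.2 hr)
      have h1 : h * r * h⁻¹ ∈ (T : Subgroup Γ) :=
        (hhr (conj_mem_conj_smul.2 (mem_zpowers r))).1
      have h3 : ∀ g, f g ∈ D → f g * (h * r * h⁻¹) = (h * r * h⁻¹) * f g := by
        intro g hg
        obtain ⟨g', hg'⟩ := hrange.conj_mem _ ⟨g, rfl⟩ h⁻¹
        have h4 : f g' ∈ D := by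
          rw [hg']; exact (mem_normalizer_iff.1 (inv_mem hh) _).1 hg
        have h5 := hrc g' h4
        rw [hg'] at h5
        calc f g * (h * r * h⁻¹) = h * (h⁻¹ * f g * h⁻¹⁻¹ * r) * h⁻¹ := by group
          _ = _ := by rw [← h5]; group
      have h6 : h * r * h⁻¹ ∈ D := by
        refine hcen ⟨h1, mem_centralizer_iff.2 fun y hy => ?_⟩
        obtain ⟨g, rfl | rfl⟩ := hall y
        · exact h3 g hy
        · rw [mul_assoc, hTt _ h1, ← mul_assoc, h3 g ((D.mul_mem_cancel_right htD).1 hy),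
            mul_assoc]
      exact (mem_normalizer_iff.1 hh _).2 h6
    have hcentric : Centric 2 (D.comap f) := by
      intro c hc ⟨k, hk⟩
      set W := centralizer (((D.comap f).map f : Subgroup Γ) : Set Γ) with hW
      have hmemW : ∀ {w : Γ}, w ∈ W ↔ ∀ g, f g ∈ D → w * f g = f g * w := by
        intro w
        rw [hW, mem_centralizer_iff]
        constructor
        · exact fun h g hg => (h _ ⟨g, hg, rfl⟩).symm
        · rintro h _ ⟨g, hg, rfl⟩
          exact (h g hg).symm
      have htW : t ∈ W := hmemW.2 fun g hg => hTt _ (hD.1 hg)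
      obtain ⟨R, hR, htR⟩ := exists_isSylowIn_ge (isPGroup_zpowers_of_mul_self ht)
        (zpowers_le.2 htW)
      rw [zpowers_le] at htR
      have hRD : R ≤ D := by
        by_contra hn
        have hlt : R ⊓ D < R := lt_of_le_of_ne inf_le_left fun h => hn (h ▸ inf_le_right)
        obtain ⟨r, ⟨hrR, hrN⟩, hrD⟩ := SetLike.exists_of_lt (lt_inf_normalizer hR.isPGroup hlt)
        refine hrD ⟨hrR, h0 r ?_ (hR.isPGroup.to_le (zpowers_le.2 hrR)) (hmemW.1 (hR.le hrR))⟩
        refine mem_normalizer_of_conj_smul_le (conj_smul_le_iff.2 fun y hy => ?_)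
        have hrt : r * t * r⁻¹ ∈ D := ((mem_normalizer_iff.1 hrN t).1 ⟨htR, htD⟩).2
        obtain ⟨g, rfl | rfl⟩ := hall y
        · rw [hmemW.1 (hR.le hrR) g hy, mul_inv_cancel_right]; exact hy
        · have hg := (D.mul_mem_cancel_right htD).1 hy
          rw [← mul_assoc, hmemW.1 (hR.le hrR) g hg, mul_assoc, mul_assoc, ← mul_assoc r]
          exact mul_mem hg hrt
      have hcW : f c ∈ W := hmemW.2 fun g hg => by rw [← map_mul, hc g hg, map_mul]
      have hc2 : IsPGroup 2 (zpowers (f c)) := by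
        rw [IsPGroup.iff_card, Nat.card_zpowers]
        obtain ⟨j, -, hj⟩ := (Nat.dvd_prime_pow Nat.prime_two).1
          (orderOf_dvd_of_pow_eq_one (show f c ^ 2 ^ k = 1 by rw [← map_pow, hk, map_one]))
        exact ⟨j, hj⟩
      obtain ⟨w, hw, hwc⟩ := hR.exists_conj_le hc2 (zpowers_le.2 hcW)
      have h1 : w * f c * w⁻¹ ∈ D := hRD (hwc (conj_mem_conj_smul.2 (mem_zpowers _)))
      obtain ⟨c', hc'⟩ := hrange.conj_mem _ ⟨c, rfl⟩ w
      rw [← hc'] at h1
      have h2 := hmemW.1 hw c' h1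
      have h3 : f c = f c' := by
        calc f c = w⁻¹ * (w * f c * w⁻¹ * w) := by group
          _ = f c' := by rw [← hc', ← h2]; group
      change f c ∈ D
      rw [h3]; exact h1
    have key : ∀ g, f g ∈ normalizer (D : Set Γ) → f g * t * (f g)⁻¹ = t := by
      intro g hg
      have h1 : g ∈ normalizer ((D.comap f : Subgroup G) : Set G) := by
        rw [mem_normalizer_iff]
        intro y
        rw [mem_comap, mem_comap, map_mul, map_mul, map_inv]
        exact mem_normalizer_iff.1 hg _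
      have h2 : g⁻¹ * τ g ∈ D.comap f := by
        rw [mem_comap, map_mul, map_inv, ← hτ]
        have h3 := (mem_normalizer_iff.1 (inv_mem hg) t).1 htD
        rw [inv_inv] at h3
        have := mul_mem h3 (inv_mem htD)
        simpa only [mul_assoc] using this
      have h4 := H _ (hTS ▸ comap_mono hD.1) hcentric g h1 h2
      have h5 := hτ g
      rw [h4, mul_inv_eq_iff_eq_mul] at h5
      rw [← h5, mul_inv_cancel_right]
    obtain ⟨g, rfl | rfl⟩ := hall x
    · exact key g hx
    · have := key g (((normalizer (D : Set Γ)).mul_mem_cancel_right (le_normalizer htD)).1 hx)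
      rw [mul_assoc (f g), ht, mul_one, mul_inv_rev, hti, ← mul_assoc, this]
  have hf' : ∀ D : Subgroup Γ, IsExtremal T D → (T : Subgroup Γ) ⊓ centralizer (D : Set Γ) ≤ D →
      ∀ x ∈ normalizer (D : Set Γ), ∀ a ∈ D, (x * a * x⁻¹ = t) = (a = t) := by
    intro D hD hcen x hx a _
    apply propext
    nth_rewrite 1 [← claim D hD hcen x hx]
    simp
  refine ⟨T, htT, fun x hx => ?_⟩
  have := apply_conj_eq_of_essential T (fun y => y = t)
    (hf' T (isExtremal_self T) inf_le_left)
    (fun D x hD => hf' D hD.1 hD.inf_centralizer_le x) t x htT hx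
  simpa using this

/-- An automorphism of order dividing two of a core-free group which centralizes a Sylow
2-subgroup and satisfies the local condition is trivial. -/
theorem eq_one_of_local [Finite G] (hO : ∀ N : Subgroup G, N.Normal → Odd (Nat.card N) → N = ⊥)
    (S : Sylow 2 G) (τ : MulAut G) (hτ2 : τ * τ = 1) (hS : ∀ s ∈ S, τ s = s)
    (H : ∀ P ≤ (S : Subgroup G), Centric 2 P → ∀ g ∈ normalizer (P : Set G),
      g⁻¹ * τ g ∈ P → τ g = g) : τ = 1 := by
  classical
  by_contra hne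
  have hord : orderOf τ = 2 := ord2_iff.2 ⟨hτ2, hne⟩
  let Γ := G ⋊[(zpowers τ).subtype] (zpowers τ)
  have : Finite Γ := Finite.of_equiv _ SemidirectProduct.equivProd.symm
  let t : Γ := SemidirectProduct.inr ⟨τ, mem_zpowers τ⟩
  have ht : t * t = 1 := by
    rw [← map_mul, ← map_one (SemidirectProduct.inr : _ →* Γ)]
    congr 1
    exact Subtype.ext hτ2
  have ht1 : t ≠ 1 := fun h => hne (congrArg (fun x : Γ => (x.right : MulAut G)) h)
  have hτ : ∀ g, t * SemidirectProduct.inl g * t⁻¹ = SemidirectProduct.inl (τ g) := fun g => by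
    rw [← map_inv]
    exact (SemidirectProduct.inl_aut (φ := (zpowers τ).subtype) ⟨τ, mem_zpowers τ⟩ g).symm
  obtain ⟨T, htT, hiso⟩ := isolated (SemidirectProduct.inl : G →* Γ)
    SemidirectProduct.inl_injective t ht (fun x => by
      obtain ⟨g, a, ha⟩ := x
      refine ⟨g, ?_⟩
      have ha' := ha
      rw [mem_zpowers_iff_mem_range_orderOf, hord] at ha'
      simp only [Finset.mem_image, Finset.mem_range] at ha'
      obtain ⟨k, hk, rfl⟩ := ha'
      interval_cases k
      · left; ext <;> simp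
      · right; ext <;> simp [t]) τ hτ S hS H
  obtain ⟨N, hN, hodd, hcomm⟩ := Cfsg.Agent.S0215.result T t (ord2_iff.2 ⟨ht, ht1⟩) htT hiso
  have hbot := hO (N.comap SemidirectProduct.inl) inferInstance
    (hodd.of_dvd_nat (card_comap_dvd_of_injective N _ SemidirectProduct.inl_injective))
  apply hne
  ext g
  have h1 : τ g * g⁻¹ ∈ N.comap (SemidirectProduct.inl : G →* Γ) := by
    rw [mem_comap, map_mul, map_inv, ← hτ]
    exact hcomm _
  rw [hbot, mem_bot, mul_inv_eq_one] at h1
  exact h1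

/-- Glauberman: let `A` act on the core-free group `G`, fixing the Sylow 2-subgroup `S` pointwise.
Then `A` has a normal subgroup `K` with `A / K` an abelian 2-group such that every element of `K`
inducing an automorphism of 2-power order acts trivially. -/
theorem exists_kernel [Finite G] (hO : ∀ N : Subgroup G, N.Normal → Odd (Nat.card N) → N = ⊥)
    (S : Sylow 2 G) {A : Type*} [Group A] (φ : A →* MulAut G) (hS : ∀ a, ∀ s ∈ S, φ a s = s) :
    ∃ K : Subgroup A, K.Normal ∧ φ.ker ≤ K ∧ (∀ a b : A, a * b * a⁻¹ * b⁻¹ ∈ K) ∧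
      (∀ a : A, a ^ Nat.card S ∈ K) ∧ ∀ a ∈ K, ∀ k : ℕ, φ a ^ 2 ^ k = 1 → φ a = 1 := by
  have : Fact (Nat.Prime 2) := ⟨Nat.prime_two⟩
  let I := {x : Subgroup G × G // x.1 ≤ S ∧ Centric 2 x.1 ∧ x.2 ∈ normalizer (x.1 : Set G)}
  have hcen : ∀ (i : I) (a : A), ∀ x ∈ i.1.1, (i.1.2⁻¹ * φ a i.1.2) * x =
      x * (i.1.2⁻¹ * φ a i.1.2) := by
    rintro ⟨⟨P, g⟩, hP, hc, hg⟩ a x hx
    dsimp only at *
    have h1 := hS a _ (hP ((mem_normalizer_iff.1 hg x).1 hx))
    rw [map_mul, map_mul, map_inv, hS a x (hP hx)] at h1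
    calc g⁻¹ * φ a g * x = g⁻¹ * (φ a g * x * (φ a g)⁻¹) * φ a g := by group
      _ = _ := by rw [h1]; group
  have hmem : ∀ (i : I) (a : A), (i.1.2⁻¹ * φ a i.1.2) ^ (S : Subgroup G).index ∈ i.1.1 :=
    fun i a => i.2.2.1.pow_index_mem S (hcen i a)
  let δ : I → (A →* G) := fun i => MonoidHom.mk'
    (fun a => (i.1.2⁻¹ * φ a i.1.2) ^ (S : Subgroup G).index) (fun a b => by
      have h1 : i.1.2⁻¹ * φ (a * b) i.1.2 =
          (i.1.2⁻¹ * φ a i.1.2) * φ a (i.1.2⁻¹ * φ b i.1.2) := by
        simp [mul_assoc]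
      have h2 : ∀ x ∈ i.1.1, φ a (i.1.2⁻¹ * φ b i.1.2) * x = x * φ a (i.1.2⁻¹ * φ b i.1.2) := by
        intro x hx
        have := congrArg (φ a) (hcen i b x hx)
        rwa [map_mul, map_mul (φ a) x, hS a x (i.2.1 hx)] at this
      rw [h1, i.2.2.1.mul_pow_index S (hcen i a) h2, ← map_pow, hS a _ (i.2.1 (hmem i b))])
  have hδ : ∀ i a, δ i a = (i.1.2⁻¹ * φ a i.1.2) ^ (S : Subgroup G).index := fun i a => rfl
  have hK : ∀ a, a ∈ ⨅ i, (δ i).ker ↔ ∀ i, δ i a = 1 := fun a => by
    simp only [mem_iInf, MonoidHom.mem_ker]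
  have hone : ∀ a ∈ ⨅ i, (δ i).ker, φ a * φ a = 1 → φ a = 1 := by
    intro a ha ha2
    refine eq_one_of_local hO S (φ a) ha2 (hS a) (fun P hP hc g hg hgP => ?_)
    have h1 := (hK a).1 ha ⟨(P, g), hP, hc, hg⟩
    rw [hδ] at h1
    dsimp only at h1
    obtain ⟨k, hk⟩ := S.isPGroup' ⟨_, hP hgP⟩
    have h2 : (g⁻¹ * φ a g) ^ 2 ^ k = 1 := congrArg Subtype.val hk
    have h3 : g⁻¹ * φ a g = 1 := (pow_eq_one_iff_of_coprime
      (Nat.Coprime.pow_left k (Nat.prime_two.coprime_iff_not_dvd.2 S.not_dvd_index))).1 ⟨h2, h1⟩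
    exact (inv_mul_eq_one.1 h3).symm
  refine ⟨⨅ i, (δ i).ker, normal_iInf_normal fun i => inferInstance, fun a ha => ?_,
    fun a b => ?_, fun a => ?_, fun a ha k => ?_⟩
  · rw [hK]
    intro i
    rw [hδ, MonoidHom.mem_ker.1 ha]
    simp
  · rw [hK]
    intro i
    have h1 : δ i a * δ i b = δ i b * δ i a :=
      ((show Commute _ (δ i b) from hcen i a _ (hmem i b)).pow_left _).eq
    simp only [map_mul, map_inv, h1]
    group
  · rw [hK]
    intro i
    rw [map_pow]
    exact orderOf_dvd_iff_pow_eq_one.1 (Subgroup.orderOf_dvd_natCard _ (i.2.1 (hmem i a)))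
  · induction k with
    | zero => simp
    | succ k ih =>
      intro hk
      apply ih
      rw [← map_pow]
      apply hone _ (pow_mem ha _)
      rw [map_pow, ← pow_add, ← two_mul, ← pow_succ', hk]

end CL.AutSyl
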