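import Cfsg.Agent.Invol.Beta

/-!
Consequences of the Brauer–Fowler index bound, and small Sylow facts on involutions.
-/

set_option autoImplicit false

namespace CL.BF

variable {G : Type*} [Group G]

/-- A simple group with a proper subgroup of index `j` has order dividing `j!`. -/
theorem toPermHom_injective_of_simple [IsSimpleGroup G] {H : Subgroup G} (hH : H ≠ ⊤) :
    Function.Injective (MulAction.toPermHom G (G ⧸ H)) := by
  rw [← MonoidHom.ker_eq_bot_iff, ← Subgroup.normalCore_eq_ker]
  rcases (Subgroup.normalCore_normal H).eq_bot_or_eq_top with h | h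
  · exact h
  · exact absurd (top_le_iff.1 (h ▸ H.normalCore_le)) hH

theorem card_dvd_factorial_index_of_simple [Finite G] [IsSimpleGroup G] {H : Subgroup G}
    (hH : H ≠ ⊤) : Nat.card G ∣ H.index.factorial := by
  have := Subgroup.card_dvd_of_injective _ (toPermHom_injective_of_simple hH)
  rwa [Nat.card_perm] at this

theorem card_le_numInv_mul [Finite G] {t : G} (ht : orderOf t = 2) :
    Nat.card G ≤ numInv G * Nat.card (Subgroup.centralizer ({t} : Set G)) := by
  rw [← card_conj_mul_card_cent t]
  refine Nat.mul_le_mul_right _ ?_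
  exact Nat.card_le_card_of_injective
    (fun y => (⟨y.1, (orderOf_eq_of_isConj y.2) ▸ ht⟩ : {t : G // orderOf t = 2}))
    (fun a b h => Subtype.ext (by simpa using h))

theorem exists_proper_index_lt [Finite G] (hZ : ∀ z : G, orderOf z = 2 → z ∉ Subgroup.center G)
    {t : G} (ht : orderOf t = 2) :
    ∃ H : Subgroup G, H ≠ ⊤ ∧ (H.index = 2 ∨
      2 * H.index < Nat.card (Subgroup.centralizer ({t} : Set G)) *
        (Nat.card (Subgroup.centralizer ({t} : Set G)) + 1)) := by
  have heven : Even (Nat.card G) := even_iff_two_dvd.2 (ht ▸ orderOf_dvd_natCard t)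
  obtain ⟨H, hH, h⟩ := brauer_fowler_index heven hZ
  refine ⟨H, hH, h.imp id (fun h => ?_)⟩
  have h1 := card_le_numInv_mul ht
  set c := Nat.card (Subgroup.centralizer ({t} : Set G))
  set n := numInv G
  refine Nat.lt_of_mul_lt_mul_right (a := n ^ 2) (h.trans_le ?_)
  calc Nat.card G * (Nat.card G + n) ≤ (n * c) * (n * c + n) :=
        Nat.mul_le_mul h1 (Nat.add_le_add_right h1 _)
    _ = _ := by ring

theorem two_le_card_cent [Finite G] {t : G} (ht : orderOf t = 2) :
    2 ≤ Nat.card (Subgroup.centralizer ({t} : Set G)) :=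
  Nat.le_of_dvd Nat.card_pos (ht ▸ Subgroup.orderOf_dvd_natCard _ (mem_cent_iff.2 rfl))

/-- A simple group with a central involution has order two. -/
theorem card_eq_two_of_simple_of_central [Finite G] [IsSimpleGroup G] {z : G} (hz : orderOf z = 2)
    (hc : z ∈ Subgroup.center G) : Nat.card G = 2 := by
  have hn : (Subgroup.zpowers z).Normal := by
    refine ⟨fun x hx g => ?_⟩
    have hx' : x ∈ Subgroup.center G := (Subgroup.zpowers_le.2 hc) hx
    rw [Subgroup.mem_center_iff.1 hx' g, mul_inv_cancel_right]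
    exact hx
  rcases hn.eq_bot_or_eq_top with h | h
  · exact absurd (Subgroup.zpowers_eq_bot.1 h) (ne_one_of_ord2 hz)
  · rw [← hz, ← Nat.card_zpowers, h, Subgroup.card_top]

/-- A simple group with a subgroup of index two has order two. -/
theorem card_eq_two_of_simple_of_index_two [Finite G] [IsSimpleGroup G] {H : Subgroup G}
    (h : H.index = 2) : Nat.card G = 2 := by
  rcases (Subgroup.normal_of_index_eq_two h).eq_bot_or_eq_top with h1 | h1
  · rw [h1, Subgroup.index_bot] at h; exact h
  · rw [h1, Subgroup.index_top] at h; omega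

theorem isPGroup_zpowers_of_mul_self {a : G} (ha : a * a = 1) :
    IsPGroup 2 (Subgroup.zpowers a) := by
  rintro ⟨x, hx⟩
  refine ⟨1, Subtype.ext ?_⟩
  obtain ⟨k, rfl⟩ := Subgroup.mem_zpowers_iff.1 hx
  change (a ^ k) ^ (2 ^ 1) = 1
  rw [pow_one, ← zpow_natCast, ← zpow_mul, mul_comm, zpow_mul, zpow_natCast, pow_two, ha, one_zpow]

/-- Two commuting elements of order at most two lie in a common Sylow 2-subgroup. -/
theorem exists_sylow_of_commute {a b : G} (ha : a * a = 1) (hb : b * b = 1) (hab : a * b = b * a) :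
    ∃ P : Sylow 2 G, a ∈ P ∧ b ∈ P := by
  have h : IsPGroup 2 ↥(Subgroup.zpowers a ⊔ Subgroup.zpowers b) := by
    refine (isPGroup_zpowers_of_mul_self ha).to_sup_of_normal_right'
      (isPGroup_zpowers_of_mul_self hb) ?_
    refine le_trans ?_ (Subgroup.centralizer_le_normalizer _)
    rw [Subgroup.zpowers_le, Subgroup.mem_centralizer_iff]
    rintro _ ⟨k, rfl⟩
    exact ((Commute.zpow_right (hab : Commute a b) k).eq).symm
  obtain ⟨P, hP⟩ := h.exists_le_sylow
  exact ⟨P, hP (Subgroup.mem_sup_left (Subgroup.mem_zpowers a)),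
    hP (Subgroup.mem_sup_right (Subgroup.mem_zpowers b))⟩

theorem conj_mem_smul_sylow {p : ℕ} (P : Sylow p G) (g : G) {x : G} (hx : x ∈ P) :
    g * x * g⁻¹ ∈ g • P := by
  change g * x * g⁻¹ ∈ ((g • P : Sylow p G) : Subgroup G)
  rw [Sylow.coe_subgroup_smul]
  exact Subgroup.smul_mem_pointwise_smul x (MulAut.conj g) _ hx

/-- A group of order twice an odd number has a subgroup of index two. -/
theorem exists_index_two_of_two_mul_odd [Finite G] {m : ℕ} (hm : Odd m)
    (hG : Nat.card G = 2 * m) : ∃ H : Subgroup G, H.index = 2 := by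
  have : Fact (Nat.Prime 2) := ⟨Nat.prime_two⟩
  obtain ⟨P⟩ : Nonempty (Sylow 2 G) := inferInstance
  have hP : Nat.card P = 2 := by
    rw [P.card_eq_multiplicity, hG, Nat.factorization_mul (by norm_num) hm.pos.ne',
      Finsupp.add_apply, Nat.prime_two.factorization_self,
      Nat.factorization_eq_zero_of_not_dvd (fun h => (Nat.not_even_iff_odd.2 hm)
        (even_iff_two_dvd.2 h))]
    rfl
  have hcyc : IsCyclic P := isCyclic_of_prime_card hP
  have hmin : (Nat.card G).minFac = 2 := by
    rw [Nat.minFac_eq_two_iff, hG]; exact dvd_mul_right 2 m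
  have := hcyc.isComplement' hmin
  exact ⟨_, this.symm.index_eq_card.trans hP⟩

end CL.BF
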