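import Cfsg.Agent.Invol.Count

/-!
The counting function `β(x) = #{(u,v) : u, v involutions, u v = x}` and the Brauer–Fowler
index bound.
-/

set_option autoImplicit false

namespace CL.BF

variable {G : Type*} [Group G]

/-- number of ordered pairs of involutions with product `x` -/
noncomputable abbrev beta (x : G) : ℕ :=
  Nat.card {p : G × G // orderOf p.1 = 2 ∧ orderOf p.2 = 2 ∧ p.1 * p.2 = x}

/-- number of involutions -/
noncomputable abbrev numInv (G : Type*) [Group G] : ℕ := Nat.card {t : G // orderOf t = 2}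

theorem beta_eq_of_sq_ne_one (x : G) (hx : x ^ 2 ≠ 1) :
    beta x = Nat.card {t : G // orderOf t = 2 ∧ t * x * t⁻¹ = x⁻¹} := by
  refine Nat.card_congr
    { toFun := fun p => ⟨p.1.1, p.2.1, ?_⟩
      invFun := fun t => ⟨(t.1, t.1 * x), t.2.1, ?_, ?_⟩
      left_inv := ?_
      right_inv := fun t => rfl }
  · obtain ⟨⟨u, v⟩, hu, hv, rfl⟩ := p
    exact inverts_mul_left (mul_self_of_ord2 hu) (mul_self_of_ord2 hv)
  · obtain ⟨t, ht, htx⟩ := t
    rw [inv_eq_of_ord2 ht] at htx
    rw [ord2_iff]
    refine ⟨?_, fun h => hx ?_⟩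
    · dsimp only
      rw [← mul_assoc, htx, inv_mul_cancel]
    · dsimp only at h
      have : x = t := by
        rw [← inv_eq_of_ord2 ht]; exact (eq_inv_of_mul_eq_one_right h)
      rw [this, pow_two, mul_self_of_ord2 ht]
  · dsimp only
    rw [← mul_assoc, mul_self_of_ord2 t.2.1, one_mul]
  · rintro ⟨⟨u, v⟩, hu, hv, rfl⟩
    simp only [Subtype.mk.injEq, Prod.mk.injEq, true_and]
    rw [← mul_assoc, mul_self_of_ord2 hu, one_mul]

theorem beta_add_one_of_ord2 [Finite G] (x : G) (hx : orderOf x = 2) :
    beta x + 1 = Nat.card {t : G // orderOf t = 2 ∧ Commute t x} := by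
  classical
  have h1 : beta x = Nat.card {t : G // (orderOf t = 2 ∧ Commute t x) ∧ t ≠ x} := by
    refine Nat.card_congr
      { toFun := fun p => ⟨p.1.1, ⟨p.2.1, ?_⟩, ?_⟩
        invFun := fun t => ⟨(t.1, t.1 * x), t.2.1.1, ?_, ?_⟩
        left_inv := ?_
        right_inv := fun t => rfl }
    · obtain ⟨⟨u, v⟩, hu, hv, rfl⟩ := p
      have := inverts_mul_left (mul_self_of_ord2 hu) (mul_self_of_ord2 hv)
      rw [inv_eq_of_ord2 hx, mul_inv_eq_iff_eq_mul] at this
      exact this
    · obtain ⟨⟨u, v⟩, hu, hv, rfl⟩ := p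
      intro h
      dsimp only at h hv
      exact ne_one_of_ord2 hv (left_eq_mul.1 h)
    · obtain ⟨t, ⟨ht, htx⟩, hne⟩ := t
      rw [ord2_iff]
      refine ⟨?_, fun h => hne ?_⟩
      · dsimp only
        calc t * x * (t * x) = t * (x * t) * x := by group
          _ = 1 := by
            rw [← htx.eq, ← mul_assoc, mul_self_of_ord2 ht, one_mul, mul_self_of_ord2 hx]
      · dsimp only at h
        rw [← inv_eq_of_ord2 hx]; exact (eq_inv_of_mul_eq_one_left h)
    · dsimp only
      rw [← mul_assoc, mul_self_of_ord2 t.2.1.1, one_mul]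
    · rintro ⟨⟨u, v⟩, hu, hv, rfl⟩
      simp only [Subtype.mk.injEq, Prod.mk.injEq, true_and]
      rw [← mul_assoc, mul_self_of_ord2 hu, one_mul]
  have := Fintype.ofFinite G
  rw [h1]
  simp only [Nat.card_eq_fintype_card, Fintype.card_subtype]
  rw [← Finset.card_insert_of_notMem (a := x) (by simp)]
  congr 1
  ext t
  simp only [Finset.mem_filter, Finset.mem_univ, true_and, Finset.mem_insert]
  by_cases ht : t = x
  · simp [ht, hx]
  · simp [ht]

theorem beta_one [Finite G] : beta (1 : G) = numInv G := by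
  refine Nat.card_congr
    { toFun := fun p => ⟨p.1.1, p.2.1⟩
      invFun := fun t => ⟨(t.1, t.1), t.2, t.2, mul_self_of_ord2 t.2⟩
      left_inv := ?_
      right_inv := fun t => rfl }
  rintro ⟨⟨u, v⟩, hu, hv, h⟩
  simp only [Subtype.mk.injEq, Prod.mk.injEq, true_and]
  dsimp only at hu hv h
  rw [← inv_eq_of_ord2 hv]; exact (eq_inv_of_mul_eq_one_left h)

theorem beta_eq_zero_of_not_real (x : G) (hx : ¬ IsConj x x⁻¹) : beta x = 0 := by
  rw [Nat.card_eq_zero]
  left
  refine ⟨fun ⟨⟨u, v⟩, hu, hv, h⟩ => hx ?_⟩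
  subst h
  exact isConj_iff.2 ⟨u, inverts_mul_left (mul_self_of_ord2 hu) (mul_self_of_ord2 hv)⟩

theorem beta_le_card_cent [Finite G] (x : G) :
    beta x ≤ Nat.card (Subgroup.centralizer ({x} : Set G)) := by
  by_cases hx : IsConj x x⁻¹
  · rw [← card_conjugators hx]
    refine Nat.card_le_card_of_injective
      (fun p => (⟨p.1.1, ?_⟩ : {g : G // g * x * g⁻¹ = x⁻¹})) ?_
    · obtain ⟨⟨u, v⟩, hu, hv, rfl⟩ := p
      exact inverts_mul_left (mul_self_of_ord2 hu) (mul_self_of_ord2 hv)
    · rintro ⟨⟨u, v⟩, hu, hv, h⟩ ⟨⟨u', v'⟩, hu', hv', h'⟩ e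
      simp only [Subtype.mk.injEq] at e
      subst e
      simp only [Subtype.mk.injEq, Prod.mk.injEq, true_and]
      exact mul_left_cancel (h.trans h'.symm)
  · rw [beta_eq_zero_of_not_real x hx]; exact Nat.zero_le _

theorem card_ord2_commute_add_one_le [Finite G] (x : G) :
    Nat.card {t : G // orderOf t = 2 ∧ Commute t x} + 1 ≤
      Nat.card (Subgroup.centralizer ({x} : Set G)) := by
  rw [← card_sq_eq_one (fun t => Commute t x) (Commute.one_left x)]
  exact Nat.card_le_card_of_injective
    (fun t => (⟨t.1, mem_cent_iff.2 t.2.2⟩ : Subgroup.centralizer ({x} : Set G)))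
    (fun a b h => Subtype.ext (by simpa using h))

theorem beta_add_two_le [Finite G] (x : G) (hx : orderOf x = 2) :
    beta x + 2 ≤ Nat.card (Subgroup.centralizer ({x} : Set G)) := by
  have h1 := beta_add_one_of_ord2 x hx
  have h2 := card_ord2_commute_add_one_le x
  omega

theorem sum_beta [Fintype G] : ∑ x : G, beta x = numInv G ^ 2 := by
  classical
  rw [← Nat.card_sigma, pow_two, ← Nat.card_prod]
  refine Nat.card_congr
    { toFun := fun p => (⟨p.2.1.1, p.2.2.1⟩, ⟨p.2.1.2, p.2.2.2.1⟩)
      invFun := fun p => ⟨p.1.1 * p.2.1, (p.1.1, p.2.1), p.1.2, p.2.2, rfl⟩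
      left_inv := ?_
      right_inv := fun p => rfl }
  rintro ⟨x, ⟨u, v⟩, hu, hv, rfl⟩
  rfl

/-- The extended centralizer `C*(x)`: elements centralizing or inverting `x`. -/
def extCent (x : G) : Subgroup G where
  carrier := {g | g * x * g⁻¹ = x ∨ g * x * g⁻¹ = x⁻¹}
  one_mem' := by simp
  mul_mem' := by
    have key : ∀ a : G, a * x⁻¹ * a⁻¹ = (a * x * a⁻¹)⁻¹ := fun a => by group
    rintro a b (ha | ha) (hb | hb) <;>
    · have e : a * b * x * (a * b)⁻¹ = a * (b * x * b⁻¹) * a⁻¹ := by group
      simp only [Set.mem_ofPred_eq, e, hb, key, ha, inv_inv, true_or, or_true]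
  inv_mem' := by
    rintro a (ha | ha)
    · left
      conv_lhs => rw [← ha]
      group
    · right
      have : x = a * x⁻¹ * a⁻¹ := by
        rw [show a * x⁻¹ * a⁻¹ = (a * x * a⁻¹)⁻¹ by group, ha, inv_inv]
      conv_lhs => rw [this]
      group

theorem mem_extCent {x g : G} : g ∈ extCent x ↔ g * x * g⁻¹ = x ∨ g * x * g⁻¹ = x⁻¹ := Iff.rfl

theorem card_extCent [Finite G] {x : G} (hx : x * x ≠ 1) (hr : IsConj x x⁻¹) :
    Nat.card (extCent x) = 2 * Nat.card (Subgroup.centralizer ({x} : Set G)) := by
  classical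
  have := Fintype.ofFinite G
  have h1 := card_conjugators hr
  have h2 := card_conjugators (IsConj.refl x)
  rw [two_mul]
  nth_rewrite 1 [← h2]
  rw [← h1]
  have e : Nat.card (extCent x) = Nat.card {g : G // g * x * g⁻¹ = x ∨ g * x * g⁻¹ = x⁻¹} := rfl
  rw [e]
  simp only [Nat.card_eq_fintype_card, Fintype.card_subtype]
  rw [Finset.filter_or, Finset.card_union_of_disjoint]
  rw [Finset.disjoint_filter]
  intro g _ h3 h4
  apply hx
  rw [h3] at h4
  nth_rewrite 1 [h4]
  exact inv_mul_cancel x

theorem numInv_pos [Finite G] (heven : Even (Nat.card G)) : 0 < numInv G := by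
  have : Fact (Nat.Prime 2) := ⟨Nat.prime_two⟩
  obtain ⟨t, ht⟩ := exists_prime_orderOf_dvd_card' (G := G) 2 heven.two_dvd
  have : Nonempty {t : G // orderOf t = 2} := ⟨⟨t, ht⟩⟩
  exact Nat.card_pos

/-- The Brauer–Fowler index bound, for a group without central involution. -/
theorem brauer_fowler_index [Finite G] (heven : Even (Nat.card G))
    (hZ : ∀ z : G, orderOf z = 2 → z ∉ Subgroup.center G) :
    ∃ H : Subgroup G, H ≠ ⊤ ∧ (H.index = 2 ∨
      2 * H.index * numInv G ^ 2 < Nat.card G * (Nat.card G + numInv G)) := by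
  classical
  by_contra hcon
  push Not at hcon
  have := Fintype.ofFinite G
  set g := Nat.card G with hg
  set n := numInv G with hn
  have hgpos : 0 < g := Nat.card_pos
  have hnpos : 0 < n := numInv_pos heven
  have hcent : ∀ x : G, x ∉ Subgroup.center G → Subgroup.centralizer ({x} : Set G) ≠ ⊤ := by
    intro x hx h
    apply hx
    rw [Subgroup.mem_center_iff]
    intro y
    exact mem_cent_iff.1 (h ▸ Subgroup.mem_top y)
  -- pointwise bound
  have key : ∀ x : G, beta x * (g + n) + (if orderOf x = 2 then 2 * (g + n) else 0) ≤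
      (if x = 1 then n * (g + n) else if orderOf x = 2 then 2 * n ^ 2 else n ^ 2) := by
    intro x
    by_cases h1 : x = 1
    · subst h1
      rw [beta_one, ← hn]
      simp
    rw [if_neg h1]
    by_cases h2 : orderOf x = 2
    · rw [if_pos h2, if_pos h2]
      have h3 := beta_add_two_le x h2
      have h4 := (hcon _ (hcent x (hZ x h2))).2
      have h5 := (Subgroup.centralizer ({x} : Set G)).card_mul_index
      set c := Nat.card (Subgroup.centralizer ({x} : Set G))
      set j := (Subgroup.centralizer ({x} : Set G)).index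
      have hj : 0 < j := Nat.pos_of_ne_zero (fun h => by rw [h] at h5; omega)
      have h6 : c * (g + n) ≤ 2 * n ^ 2 := by
        refine Nat.le_of_mul_le_mul_left ?_ hj
        calc j * (c * (g + n)) = (c * j) * (g + n) := by ring
          _ = g * (g + n) := by rw [h5]
          _ ≤ 2 * j * n ^ 2 := h4
          _ = _ := by ring
      nlinarith
    · rw [if_neg h2, if_neg h2, add_zero]
      by_cases hr : IsConj x x⁻¹
      · have hxx : x * x ≠ 1 := fun h => h2 (ord2_iff.2 ⟨h, h1⟩)
        have h3 := beta_le_card_cent x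
        have hc := card_extCent hxx hr
        have h5 := (extCent x).card_mul_index
        have h5' := (Subgroup.centralizer ({x} : Set G)).card_mul_index
        set c := Nat.card (Subgroup.centralizer ({x} : Set G))
        have hcpos : 0 < c := Nat.card_pos
        have htop : extCent x ≠ ⊤ := by
          intro h
          have h7 : (Subgroup.centralizer ({x} : Set G)).index = 2 := by
            rw [hc, h, Subgroup.index_top] at h5
            refine Nat.eq_of_mul_eq_mul_left hcpos ?_
            rw [h5', ← h5]; ring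
          refine (hcon _ ?_).1 h7
          intro h8
          rw [h8, Subgroup.index_top] at h7
          omega
        have h4 := (hcon _ htop).2
        set j := (extCent x).index
        have hj : 0 < j := Nat.pos_of_ne_zero (fun h => by rw [h] at h5; omega)
        have h6 : c * (g + n) ≤ n ^ 2 := by
          refine Nat.le_of_mul_le_mul_left ?_ (Nat.mul_pos two_pos hj)
          calc 2 * j * (c * (g + n)) = (2 * c * j) * (g + n) := by ring
            _ = g * (g + n) := by rw [← hc, h5]
            _ ≤ 2 * j * n ^ 2 := h4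
        nlinarith
      · rw [beta_eq_zero_of_not_real x hr]; simp
  have hsum := Finset.sum_le_sum (fun x (_ : x ∈ Finset.univ) => key x)
  rw [Finset.sum_add_distrib, ← Finset.sum_mul, sum_beta, ← Finset.sum_filter,
    Finset.sum_const, smul_eq_mul] at hsum
  have hcardI : (Finset.univ.filter (fun x : G => orderOf x = 2)).card = n := by
    rw [hn, numInv, Nat.card_eq_fintype_card, Fintype.card_subtype]
  have hrhs : ∑ x : G, (if x = 1 then n * (g + n) else if orderOf x = 2 then 2 * n ^ 2 else n ^ 2)
      + n ^ 2 = n * (g + n) + (g + n) * n ^ 2 := by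
    have e : ∀ x : G, (if x = 1 then n * (g + n) else if orderOf x = 2 then 2 * n ^ 2 else n ^ 2)
        + (if x = 1 then n ^ 2 else 0) =
        (if x = 1 then n * (g + n) else 0) + (if orderOf x = 2 then n ^ 2 else 0) + n ^ 2 := by
      intro x
      by_cases h1 : x = 1
      · subst h1; simp
      · by_cases h2 : orderOf x = 2
        · simp [h1, h2]; ring
        · simp [h1, h2]
    have e2 := Finset.sum_congr (rfl : (Finset.univ : Finset G) = _) (fun x _ => e x)
    rw [Finset.sum_add_distrib, Finset.sum_add_distrib, Finset.sum_add_distrib,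
      Finset.sum_ite_eq', Finset.sum_ite_eq', ← Finset.sum_filter, Finset.sum_const,
      Finset.sum_const, hcardI, Finset.card_univ, ← Nat.card_eq_fintype_card, ← hg] at e2
    simp only [Finset.mem_univ, if_true, smul_eq_mul] at e2
    rw [e2]; ring
  rw [hcardI, ← hn] at hsum
  nlinarith

end CL.BF
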