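import Cfsg.Agent.Base

/-!
Elementary facts on involutions, real elements and the counting function
`β(x) = #{(u,v) : u, v involutions, u v = x}` used for the Brauer–Fowler theorems.
-/

set_option autoImplicit false

namespace CL.BF

variable {G : Type*} [Group G]

theorem ord2_iff {t : G} : orderOf t = 2 ↔ t * t = 1 ∧ t ≠ 1 := by
  have : Fact (Nat.Prime 2) := ⟨Nat.prime_two⟩
  rw [orderOf_eq_prime_iff, pow_two]

theorem mul_self_of_ord2 {t : G} (ht : orderOf t = 2) : t * t = 1 := (ord2_iff.1 ht).1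

theorem ne_one_of_ord2 {t : G} (ht : orderOf t = 2) : t ≠ 1 := (ord2_iff.1 ht).2

theorem inv_eq_of_ord2 {t : G} (ht : orderOf t = 2) : t⁻¹ = t :=
  inv_eq_of_mul_eq_one_right (mul_self_of_ord2 ht)

theorem orderOf_conj_eq (g x : G) : orderOf (g * x * g⁻¹) = orderOf x := by
  have : g * x * g⁻¹ = MulAut.conj g x := rfl
  rw [this, MulEquiv.orderOf_eq]

theorem orderOf_eq_of_isConj {x y : G} (h : IsConj x y) : orderOf x = orderOf y := by
  obtain ⟨c, rfl⟩ := isConj_iff.1 h
  exact (orderOf_conj_eq c x).symm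

theorem mem_cent_iff {x g : G} : g ∈ Subgroup.centralizer ({x} : Set G) ↔ g * x = x * g := by
  rw [Subgroup.mem_centralizer_singleton_iff]

theorem mem_cent_iff_conj {x g : G} :
    g ∈ Subgroup.centralizer ({x} : Set G) ↔ g * x * g⁻¹ = x := by
  rw [mem_cent_iff, mul_inv_eq_iff_eq_mul]

/-- The elements conjugating `x` to a fixed conjugate `y` form a coset of the centralizer. -/
theorem card_conjugators {x y : G} (h : IsConj x y) :
    Nat.card {g : G // g * x * g⁻¹ = y} = Nat.card (Subgroup.centralizer ({x} : Set G)) := by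
  obtain ⟨c, hc⟩ := isConj_iff.1 h
  refine Nat.card_congr
    { toFun := fun g => ⟨c⁻¹ * g.1, ?_⟩
      invFun := fun g => ⟨c * g.1, ?_⟩
      left_inv := fun g => by simp
      right_inv := fun g => by simp }
  · rw [mem_cent_iff_conj]
    have := g.2
    calc c⁻¹ * g.1 * x * (c⁻¹ * g.1)⁻¹ = c⁻¹ * (g.1 * x * g.1⁻¹) * c := by group
      _ = x := by rw [this, ← hc]; group
  · have := mem_cent_iff_conj.1 g.2
    calc c * g.1 * x * (c * g.1)⁻¹ = c * (g.1 * x * g.1⁻¹) * c⁻¹ := by group
      _ = y := by rw [this, hc]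

/-- Orbit–stabilizer for conjugation. -/
theorem card_conj_mul_card_cent [Finite G] (x : G) :
    Nat.card {y : G // IsConj x y} * Nat.card (Subgroup.centralizer ({x} : Set G)) =
      Nat.card G := by
  classical
  have := Fintype.ofFinite G
  have h1 : Nat.card G = ∑ y : {y : G // IsConj x y}, Nat.card {g : G // g * x * g⁻¹ = y.1} := by
    rw [← Nat.card_sigma]
    refine Nat.card_congr
      { toFun := fun g => ⟨⟨g * x * g⁻¹, isConj_iff.2 ⟨g, rfl⟩⟩, ⟨g, rfl⟩⟩
        invFun := fun p => p.2.1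
        left_inv := fun g => rfl
        right_inv := ?_ }
    rintro ⟨⟨y, hy⟩, g, hg⟩
    dsimp only at hg
    subst hg
    rfl
  rw [h1, Finset.sum_congr rfl (fun y _ => card_conjugators y.2)]
  simp [Nat.card_eq_fintype_card]

theorem card_cent_conj {x y : G} (h : IsConj x y) :
    Nat.card (Subgroup.centralizer ({x} : Set G)) =
      Nat.card (Subgroup.centralizer ({y} : Set G)) := by
  obtain ⟨c, rfl⟩ := isConj_iff.1 h
  refine Nat.card_congr
    { toFun := fun g => ⟨c * g.1 * c⁻¹, ?_⟩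
      invFun := fun g => ⟨c⁻¹ * g.1 * c, ?_⟩
      left_inv := fun g => by ext; simp [mul_assoc]
      right_inv := fun g => by ext; simp [mul_assoc] }
  · have := mem_cent_iff.1 g.2
    rw [mem_cent_iff]
    calc c * g.1 * c⁻¹ * (c * x * c⁻¹) = c * (g.1 * x) * c⁻¹ := by group
      _ = _ := by rw [this]; group
  · have := mem_cent_iff.1 g.2
    rw [mem_cent_iff]
    calc c⁻¹ * g.1 * c * x = c⁻¹ * (g.1 * (c * x * c⁻¹)) * c := by group
      _ = _ := by rw [this]; group

/-- an element inverting `x`, raised to the power `m`. -/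
theorem pow_conj_of_inverts {g x : G} (h : g * x * g⁻¹ = x⁻¹) (m : ℕ) :
    g ^ m * x * (g ^ m)⁻¹ = if Even m then x else x⁻¹ := by
  induction m with
  | zero => simp
  | succ m ih =>
    have e : g ^ (m + 1) * x * (g ^ (m + 1))⁻¹ = g * (g ^ m * x * (g ^ m)⁻¹) * g⁻¹ := by group
    rw [e, ih]
    by_cases hm : Even m
    · simp [hm, Nat.even_add_one, h]
    · simp only [hm, Nat.even_add_one, if_false, not_false_eq_true, if_true]
      have : g * x⁻¹ * g⁻¹ = (g * x * g⁻¹)⁻¹ := by group
      rw [this, h, inv_inv]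

theorem inverts_pow {g x : G} (h : g * x * g⁻¹ = x⁻¹) (k : ℕ) :
    g * x ^ k * g⁻¹ = (x ^ k)⁻¹ := by
  rw [← conj_pow, h, inv_pow]

/-- Each of two involutions inverts their product. -/
theorem inverts_mul_left {u v : G} (hu : u * u = 1) (hv : v * v = 1) :
    u * (u * v) * u⁻¹ = (u * v)⁻¹ := by
  have hu' : u⁻¹ = u := inv_eq_of_mul_eq_one_right hu
  have hv' : v⁻¹ = v := inv_eq_of_mul_eq_one_right hv
  rw [← mul_assoc, hu, one_mul, mul_inv_rev, hv']

theorem inverts_mul_right {u v : G} (hu : u * u = 1) (hv : v * v = 1) :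
    v * (u * v) * v⁻¹ = (u * v)⁻¹ := by
  have hu' : u⁻¹ = u := inv_eq_of_mul_eq_one_right hu
  have hv' : v⁻¹ = v := inv_eq_of_mul_eq_one_right hv
  rw [mul_inv_rev, hu', hv', mul_assoc, mul_assoc, hv, mul_one]

/-- Two involutions with product of odd order are conjugate (by a power of the product). -/
theorem exists_pow_conj_of_odd [Finite G] {u v : G} (hu : u * u = 1) (hv : v * v = 1)
    (hodd : Odd (orderOf (u * v))) : ∃ k : ℕ, (u * v) ^ k * v * ((u * v) ^ k)⁻¹ = u := by
  obtain ⟨k, hk⟩ := hodd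
  refine ⟨k + 1, ?_⟩
  have h1 := inverts_pow (inverts_mul_right hu hv) (k + 1)
  have hv' : v⁻¹ = v := inv_eq_of_mul_eq_one_right hv
  have h2 : v * ((u * v) ^ (k + 1))⁻¹ = (u * v) ^ (k + 1) * v := by
    rw [← h1, hv']
    simp only [← mul_assoc, hv, one_mul]
  have h3 : (u * v) ^ (2 * k + 1) = 1 := hk ▸ pow_orderOf_eq_one _
  calc (u * v) ^ (k + 1) * v * ((u * v) ^ (k + 1))⁻¹
      = (u * v) ^ (k + 1) * ((u * v) ^ (k + 1) * v) := by rw [mul_assoc, h2]
    _ = (u * v) ^ (2 * k + 1) * (u * v) * v := by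
        rw [← mul_assoc, ← pow_add, ← pow_succ]; congr 2; ring
    _ = u := by rw [h3, one_mul, mul_assoc, hv, mul_one]

theorem isConj_of_odd [Finite G] {u v : G} (hu : u * u = 1) (hv : v * v = 1)
    (hodd : Odd (orderOf (u * v))) : IsConj u v := by
  obtain ⟨k, hk⟩ := exists_pow_conj_of_odd hu hv hodd
  exact (isConj_iff.2 ⟨_, hk⟩).symm

theorem ord2_pow_half [Finite G] {x : G} (h : Even (orderOf x)) :
    orderOf (x ^ (orderOf x / 2)) = 2 := by
  obtain ⟨k, hk⟩ := h
  have hpos : 0 < orderOf x := orderOf_pos x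
  have hk2 : orderOf x / 2 = k := by omega
  rw [hk2, ord2_iff, ← pow_add, ← hk]
  refine ⟨pow_orderOf_eq_one x, pow_ne_one_of_lt_orderOf (by omega) (by omega)⟩

/-- An element inverting `x` centralizes every power of `x` of order at most two. -/
theorem commute_of_inverts {g x : G} (h : g * x * g⁻¹ = x⁻¹) {k : ℕ} (hk : x ^ k * x ^ k = 1) :
    g * x ^ k = x ^ k * g := by
  have h1 := inverts_pow h k
  rw [inv_eq_of_mul_eq_one_right hk, mul_inv_eq_iff_eq_mul] at h1
  exact h1

/-- Two non-conjugate involutions are centralized by a common involution (a power of their product). -/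
theorem exists_ord2_commute_of_not_isConj [Finite G] {u v : G} (hu : u * u = 1) (hv : v * v = 1)
    (h : ¬ IsConj u v) :
    ∃ z : G, orderOf z = 2 ∧ u * z = z * u ∧ v * z = z * v ∧ z ∈ Subgroup.zpowers (u * v) := by
  have hev : Even (orderOf (u * v)) := by
    by_contra hne
    exact h (isConj_of_odd hu hv (Nat.not_even_iff_odd.1 hne))
  have hz := ord2_pow_half hev
  exact ⟨_, hz, commute_of_inverts (inverts_mul_left hu hv) (mul_self_of_ord2 hz),
    commute_of_inverts (inverts_mul_right hu hv) (mul_self_of_ord2 hz),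
    Subgroup.npow_mem_zpowers _ _⟩

/-- A cyclic group has at most one involution. -/
theorem eq_pow_half_of_mem_zpowers [Finite G] {x z : G} (hz : orderOf z = 2)
    (hzx : z ∈ Subgroup.zpowers x) : z = x ^ (orderOf x / 2) := by
  rw [← mem_powers_iff_mem_zpowers] at hzx
  obtain ⟨k, rfl⟩ := hzx
  dsimp only at hz ⊢
  have hpos : 0 < orderOf x := orderOf_pos x
  have h1 := mul_self_of_ord2 hz
  have h2 := ne_one_of_ord2 hz
  rw [← pow_add, ← orderOf_dvd_iff_pow_eq_one] at h1
  rw [Ne, ← orderOf_dvd_iff_pow_eq_one] at h2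
  rw [pow_eq_pow_iff_modEq]
  obtain ⟨m, hm⟩ := h1
  have hmodd : Odd m := by
    by_contra hme
    obtain ⟨r, rfl⟩ := Nat.not_odd_iff_even.1 hme
    exact h2 ⟨r, by nlinarith⟩
  obtain ⟨r, rfl⟩ := hmodd
  have hev : Even (orderOf x) := by
    by_contra ho
    have ho' := Nat.not_even_iff_odd.1 ho
    have : Odd (orderOf x * (2 * r + 1)) := ho'.mul ⟨r, rfl⟩
    rw [← hm] at this
    exact (Nat.not_even_iff_odd.2 this) ⟨k, rfl⟩
  obtain ⟨s, hs⟩ := hev
  have : k = orderOf x * r + orderOf x / 2 := by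
    have h3 : orderOf x / 2 = s := by omega
    rw [h3]; rw [hs] at hm ⊢; nlinarith
  rw [this]
  unfold Nat.ModEq
  simp

/-- number of solutions of `x * x = 1` is one more than the number of involutions -/
theorem card_sq_eq_one [Finite G] (p : G → Prop) (h1 : p 1) :
    Nat.card {t : G // t * t = 1 ∧ p t} = Nat.card {t : G // orderOf t = 2 ∧ p t} + 1 := by
  classical
  have := Fintype.ofFinite G
  simp only [Nat.card_eq_fintype_card, Fintype.card_subtype]
  rw [← Finset.card_insert_of_notMem (a := (1 : G)) (by simp)]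
  congr 1
  ext t
  simp only [Finset.mem_filter, Finset.mem_univ, true_and, Finset.mem_insert, ord2_iff]
  by_cases ht : t = 1
  · simp [ht, h1]
  · simp [ht]

end CL.BF
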