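import Cfsg.Agent.Base
import Cfsg.Agent.Invol.Index2

/-!
# Groups with Klein four Sylow `2`-subgroups: fusion of involutions
-/

set_option autoImplicit false

namespace CL.Invol

variable {G : Type*} [Group G]

/-- A `p`-element normalizing a Sylow `p`-subgroup lies in it. -/
theorem mem_sylow_of_mem_normalizer [Finite G] {p : ℕ} [Fact p.Prime] (P : Sylow p G) {x : G}
    {k : ℕ} (hx : x ^ p ^ k = 1) (hn : x ∈ Subgroup.normalizer (P : Set G)) :
    x ∈ (P : Subgroup G) := by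
  have h1 : IsPGroup p (Subgroup.zpowers x) := by
    rintro ⟨y, hy⟩
    refine ⟨k, Subtype.ext ?_⟩
    simp only [SubmonoidClass.mk_pow, OneMemClass.coe_one]
    obtain ⟨j, rfl⟩ := Subgroup.mem_zpowers_iff.1 hy
    rw [← zpow_natCast, ← zpow_mul, mul_comm j, zpow_mul, zpow_natCast, hx, one_zpow]
  have h2 := h1.inf_normalizer_sylow P
  have h3 : x ∈ Subgroup.zpowers x ⊓ Subgroup.normalizer (P : Set G) :=
    ⟨Subgroup.mem_zpowers x, hn⟩
  rw [h2] at h3
  exact h3.2

theorem klein_mul_self {P : Subgroup G} (hP : IsKleinFour P) {x : G} (hx : x ∈ P) : x * x = 1 :=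
  congrArg Subtype.val (IsKleinFour.mul_self (⟨x, hx⟩ : P))

theorem klein_comm {P : Subgroup G} (hP : IsKleinFour P) {x y : G} (hx : x ∈ P) (hy : y ∈ P) :
    x * y = y * x :=
  congrArg Subtype.val ((IsKleinFour.isMulCommutative (G := P)).is_comm.comm ⟨x, hx⟩ ⟨y, hy⟩)

theorem klein_eq_mul {P : Subgroup G} (hP : IsKleinFour P) {x y z : G} (hx : x ∈ P) (hy : y ∈ P)
    (hz : z ∈ P) (hx1 : x ≠ 1) (hy1 : y ≠ 1) (hxy : x ≠ y) (hz1 : z ≠ 1) (hzx : z ≠ x)
    (hzy : z ≠ y) : z = x * y :=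
  congrArg Subtype.val (IsKleinFour.eq_mul_of_ne_all (G := P) (x := ⟨x, hx⟩) (y := ⟨y, hy⟩)
    (z := ⟨z, hz⟩) (fun h => hx1 (congrArg Subtype.val h)) (fun h => hy1 (congrArg Subtype.val h))
    (fun h => hxy (congrArg Subtype.val h)) (fun h => hz1 (congrArg Subtype.val h))
    (fun h => hzx (congrArg Subtype.val h)) (fun h => hzy (congrArg Subtype.val h)))

theorem klein_exists_pair {P : Subgroup G} (hP : IsKleinFour P) :
    ∃ a ∈ P, ∃ b ∈ P, a ≠ 1 ∧ b ≠ 1 ∧ a ≠ b := by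
  classical
  have : Finite P := Nat.finite_of_card_ne_zero (by rw [hP.card_four]; norm_num)
  have := Fintype.ofFinite P
  have h3 : 1 < (Finset.univ.erase (1 : P)).card := by
    rw [Finset.card_erase_of_mem (Finset.mem_univ _), Finset.card_univ, IsKleinFour.card_four']
    norm_num
  obtain ⟨a, ha, b, hb, hab⟩ := Finset.one_lt_card.1 h3
  exact ⟨a, a.2, b, b.2, fun h => (Finset.mem_erase.1 ha).1 (Subtype.ext h),
    fun h => (Finset.mem_erase.1 hb).1 (Subtype.ext h), fun h => hab (Subtype.ext h)⟩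

/-- With a Klein four Sylow `2`-subgroup `P`: if two distinct involutions `x, y` of `P` are
conjugate, an element of the normalizer permutes `x, y, xy` cyclically. -/
theorem klein_sylow_cycle [Finite G] (P : Sylow 2 G) (hP : IsKleinFour (P : Subgroup G))
    {x y : G} (hx : x ∈ (P : Subgroup G)) (hy : y ∈ (P : Subgroup G)) (hx1 : x ≠ 1) (hxy : x ≠ y)
    (hc : IsConj x y) :
    ∃ n ∈ Subgroup.normalizer (P : Set G), n * x * n⁻¹ = y ∧ n * y * n⁻¹ = x * y := by
  have : Fact (Nat.Prime 2) := ⟨Nat.prime_two⟩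
  have hcomm : IsMulCommutative (P : Subgroup G) := IsKleinFour.isMulCommutative
  have hcomm' : IsMulCommutative P := hcomm
  obtain ⟨g, hg⟩ := isConj_iff.1 hc
  obtain ⟨n, hn, hn'⟩ := P.conj_eq_normalizer_conj_of_mem x g⁻¹ hx (by
    rw [inv_inv, hg]; exact hy)
  rw [inv_inv, hg] at hn'
  have hn1 : n⁻¹ * x * n⁻¹⁻¹ = y := by rw [inv_inv, hn']
  have hni := Subgroup.inv_mem _ hn
  generalize n⁻¹ = a at hn1 hni
  refine ⟨a, hni, hn1, ?_⟩
  have hy1 : y ≠ 1 := by
    rintro rfl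
    exact hx1 (by simpa using hn1)
  have hay : a * y * a⁻¹ ∈ (P : Subgroup G) := (Subgroup.mem_normalizer_iff.1 hni y).1 hy
  apply klein_eq_mul hP hx hy hay hx1 hy1 hxy
  · simpa using hy1
  · intro hswap
    obtain ⟨k, m, ⟨j, hj⟩, hkm⟩ := Nat.exists_eq_two_pow_mul_odd (orderOf_pos a).ne'
    have h1 : a ^ m ∈ (P : Subgroup G) := by
      apply mem_sylow_of_mem_normalizer P (k := k) _ (Subgroup.pow_mem _ hni m)
      rw [← pow_mul, mul_comm m, ← hkm]
      exact pow_orderOf_eq_one a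
    have h2 : Commute (a ^ 2) y := by
      have : a ^ 2 * y * (a ^ 2)⁻¹ = y := by
        calc a ^ 2 * y * (a ^ 2)⁻¹ = a * (a * y * a⁻¹) * a⁻¹ := by rw [pow_two]; group
          _ = y := by rw [hswap, hn1]
      exact mul_inv_eq_iff_eq_mul.1 this
    have h3 : a ^ m * x * (a ^ m)⁻¹ = y := by
      have h4 := (h2.pow_left j).eq
      calc a ^ m * x * (a ^ m)⁻¹ = (a ^ 2) ^ j * (a * x * a⁻¹) * ((a ^ 2) ^ j)⁻¹ := by
            rw [hj, pow_succ, pow_mul]; group
        _ = y := by rw [hn1, h4, mul_inv_cancel_right]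
    rw [klein_comm hP h1 hx, mul_inv_cancel_right] at h3
    exact hxy h3
  · intro h
    apply hxy
    have : a * x * a⁻¹ = a * y * a⁻¹ := by rw [h, hn1]
    simpa using this

/-- The set of classes of involutions when the Sylow `2`-subgroup is a four-group. -/
theorem klein_sylow_classes [Finite G] (P : Sylow 2 G) (hP : IsKleinFour (P : Subgroup G))
    {a b : G} (ha : a ∈ (P : Subgroup G)) (hb : b ∈ (P : Subgroup G)) (ha1 : a ≠ 1) (hb1 : b ≠ 1)
    (hab : a ≠ b) :
    {C : ConjClasses G | ∃ t : G, orderOf t = 2 ∧ ConjClasses.mk t = C} =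
      {ConjClasses.mk a, ConjClasses.mk b, ConjClasses.mk (a * b)} := by
  have hab1 : a * b ≠ 1 := by
    intro h
    apply hab
    rw [mul_eq_one_iff_eq_inv, inv_eq_of_mul_eq_one_right (klein_mul_self hP hb)] at h
    exact h
  ext C
  constructor
  · rintro ⟨t, ht, rfl⟩
    obtain ⟨g, hg⟩ := exists_conj_mem_sylow (mul_self_of_orderOf_two ht) P
    have h1 : ConjClasses.mk t = ConjClasses.mk (g * t * g⁻¹) :=
      ConjClasses.mk_eq_mk_iff_isConj.2 (isConj_iff.2 ⟨g, rfl⟩)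
    rw [h1]
    by_cases e1 : g * t * g⁻¹ = a
    · rw [e1]; simp
    by_cases e2 : g * t * g⁻¹ = b
    · rw [e2]; simp
    rw [klein_eq_mul hP ha hb hg ha1 hb1 hab (ne_one_of_orderOf_two (orderOf_conj_two ht g)) e1 e2]
    simp
  · rintro (rfl | rfl | rfl)
    · exact ⟨a, orderOf_two_of_mul_self ha1 (klein_mul_self hP ha), rfl⟩
    · exact ⟨b, orderOf_two_of_mul_self hb1 (klein_mul_self hP hb), rfl⟩
    · exact ⟨a * b, orderOf_two_of_mul_self hab1 (klein_mul_self hP (mul_mem ha hb)), rfl⟩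

/-- If two distinct involutions of a Klein four Sylow `2`-subgroup are conjugate then all
involutions of it are conjugate. -/
theorem klein_sylow_all_conj [Finite G] (P : Sylow 2 G) (hP : IsKleinFour (P : Subgroup G))
    {x y : G} (hx : x ∈ (P : Subgroup G)) (hy : y ∈ (P : Subgroup G)) (hx1 : x ≠ 1) (hxy : x ≠ y)
    (hc : IsConj x y) {z : G} (hz : z ∈ (P : Subgroup G)) (hz1 : z ≠ 1) : IsConj x z := by
  obtain ⟨n, -, h1, h2⟩ := klein_sylow_cycle P hP hx hy hx1 hxy hc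
  have hy1 : y ≠ 1 := by
    rintro rfl
    exact hx1 (by simpa using h1)
  by_cases e1 : z = x
  · rw [e1]
  by_cases e2 : z = y
  · rw [e2]; exact hc
  rw [klein_eq_mul hP hx hy hz hx1 hy1 hxy hz1 e1 e2]
  exact hc.trans (isConj_iff.2 ⟨n, h2⟩)

/-- Dichotomy: no fusion in `P` and three classes, or one class of involutions. -/
theorem klein_sylow_dichotomy [Finite G] (P : Sylow 2 G) (hP : IsKleinFour (P : Subgroup G)) :
    ((∀ x ∈ (P : Subgroup G), ∀ y ∈ (P : Subgroup G), IsConj x y → x = y) ∧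
      Nat.card {C : ConjClasses G // ∃ t : G, orderOf t = 2 ∧ ConjClasses.mk t = C} = 3) ∨
    ((∀ x ∈ (P : Subgroup G), ∀ y ∈ (P : Subgroup G), x ≠ 1 → y ≠ 1 → IsConj x y) ∧
      Nat.card {C : ConjClasses G // ∃ t : G, orderOf t = 2 ∧ ConjClasses.mk t = C} = 1) := by
  obtain ⟨a, ha, b, hb, ha1, hb1, hab⟩ := klein_exists_pair hP
  have hset := klein_sylow_classes P hP ha hb ha1 hb1 hab
  have hcard : Nat.card {C : ConjClasses G // ∃ t : G, orderOf t = 2 ∧ ConjClasses.mk t = C} =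
      ({ConjClasses.mk a, ConjClasses.mk b, ConjClasses.mk (a * b)} : Set (ConjClasses G)).ncard := by
    rw [← hset]; rfl
  have hab1 : a * b ≠ 1 := by
    intro h
    apply hab
    rw [mul_eq_one_iff_eq_inv, inv_eq_of_mul_eq_one_right (klein_mul_self hP hb)] at h
    exact h
  by_cases h : ∀ x ∈ (P : Subgroup G), ∀ y ∈ (P : Subgroup G), IsConj x y → x = y
  · refine Or.inl ⟨h, ?_⟩
    rw [hcard, Set.ncard_eq_three]
    refine ⟨_, _, _, ?_, ?_, ?_, rfl⟩ <;> rw [Ne, ConjClasses.mk_eq_mk_iff_isConj] <;> intro hc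
    · exact hab (h a ha b hb hc)
    · exact hb1 (by simpa using h a ha _ (mul_mem ha hb) hc)
    · exact ha1 (by simpa using h b hb _ (mul_mem ha hb) hc)
  · push Not at h
    obtain ⟨x, hx, y, hy, hc, hxy⟩ := h
    have hx1 : x ≠ 1 := by
      rintro rfl
      exact hxy (isConj_one_right.1 hc).symm
    have hall : ∀ u ∈ (P : Subgroup G), ∀ v ∈ (P : Subgroup G), u ≠ 1 → v ≠ 1 → IsConj u v :=
      fun u hu v hv hu1 hv1 => (klein_sylow_all_conj P hP hx hy hx1 hxy hc hu hu1).symm.trans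
        (klein_sylow_all_conj P hP hx hy hx1 hxy hc hv hv1)
    refine Or.inr ⟨hall, ?_⟩
    rw [hcard, ← ConjClasses.mk_eq_mk_iff_isConj.2 (hall a ha b hb ha1 hb1),
      ← ConjClasses.mk_eq_mk_iff_isConj.2 (hall a ha _ (mul_mem ha hb) ha1 hab1)]
    simp

end CL.Invol
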